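import Groth.Agent.EtSmColim.Basic

/-!
# Descent of properties of linear maps to a stage of a filtered colimit of rings
-/

set_option autoImplicit false

universe u

open TensorProduct

namespace Groth.Agent.FlatFunLib

open EtSmColim

variable {A₀ : Type u} [CommRing A₀] {ι : Type u} {G : ι → Type u} [∀ i, CommRing (G i)]
  [∀ i, Algebra A₀ (G i)] {A : Type u} [CommRing A] [Algebra A₀ A] {g : ∀ i, G i →ₐ[A₀] A}
  (hd : Directed g) (hs : ∀ a : A, ∃ i, ∃ x : G i, g i x = a)
  (hk : ∀ i (x : G i), g i x = 0 → ∃ j, ∃ a : Step g i j, a.hom x = 0)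
  {M N : Type u} [AddCommGroup M] [Module A₀ M] [AddCommGroup N] [Module A₀ N] (u : M →ₗ[A₀] N)

/-- The natural map to a base change. -/
theorem lTensor_one_tmul {B B' : Type u} [CommRing B] [Algebra A₀ B] [CommRing B'] [Algebra A₀ B']
    (a : B →ₐ[A₀] B') (n : N) : a.toLinearMap.lTensor N (n ⊗ₜ[A₀] (1 : B)) = n ⊗ₜ (1 : B') := by
  rw [LinearMap.lTensor_tmul]
  exact congrArg (n ⊗ₜ[A₀] ·) (map_one a)

include hd hs hk in
/-- Finitely many elements vanishing in the limit vanish at a stage. -/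
theorem exists_stage_tmul_eq_zero [Nonempty ι] (s : Finset N) (h : ∀ n ∈ s, n ⊗ₜ[A₀] (1 : A) = 0) :
    ∃ j, ∀ n ∈ s, n ⊗ₜ[A₀] (1 : G j) = 0 := by
  obtain ⟨i⟩ := ‹Nonempty ι›
  let T := (baseSys hs hk).tensor hd N
  obtain ⟨j, a, ha⟩ := T.kill_finset s (i := i) (fun n => n ⊗ₜ[A₀] (1 : G i))
    fun n hn => (lTensor_one_tmul (g i) n).trans (h n hn)
  exact ⟨j, fun n hn => (lTensor_one_tmul a.hom n).symm.trans (ha n hn)⟩

include hd hs hk in
/-- A map of modules out of a finite module which vanishes in the limit vanishes at a stage. -/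
theorem exists_stage_baseChange_eq_zero [Nonempty ι] [Module.Finite A₀ M] (h : u.baseChange A = 0) :
    ∃ j, ∀ m, u m ⊗ₜ[A₀] (1 : G j) = 0 := by
  classical
  obtain ⟨s, hs'⟩ := Module.Finite.fg_top (R := A₀) (M := M)
  obtain ⟨j, hj⟩ := exists_stage_tmul_eq_zero hd hs hk (s.image u) fun n hn => by
    obtain ⟨m, -, rfl⟩ := Finset.mem_image.1 hn
    refine (TensorProduct.comm A₀ A N).symm.injective ?_
    rw [TensorProduct.comm_symm_tmul, map_zero, ← LinearMap.baseChange_tmul, h]
    rfl
  let φ : M →ₗ[A₀] N ⊗[A₀] G j := ((TensorProduct.mk A₀ N (G j)).flip 1).comp u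
  have : φ = 0 := LinearMap.ext_on hs' fun m hm => hj (u m) (Finset.mem_image_of_mem u hm)
  exact ⟨j, fun m => LinearMap.congr_fun this m⟩

/-- Vanishing of a base change, on elements. -/
theorem baseChange_eq_zero_of {B : Type u} [CommRing B] [Algebra A₀ B]
    (h : ∀ m, u m ⊗ₜ[A₀] (1 : B) = 0) : u.baseChange B = 0 := by
  ext m
  simp only [AlgebraTensorModule.curry_apply, curry_apply, LinearMap.coe_restrictScalars,
    LinearMap.baseChange_tmul, LinearMap.zero_apply]
  exact (TensorProduct.comm A₀ B N).injective (by rw [TensorProduct.comm_tmul, map_zero, h m])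

include hd hs hk in
/-- A map to a finite module which is surjective in the limit is surjective at a stage. -/
theorem exists_stage_surjective [Nonempty ι] [Module.Finite A₀ N] (h : Function.Surjective (u.baseChange A)) :
    ∃ j, ∀ n, n ⊗ₜ[A₀] (1 : G j) ∈ LinearMap.range (u.rTensor (G j)) := by
  let C := N ⧸ LinearMap.range u
  let π : N →ₗ[A₀] C := Submodule.mkQ _
  have hC : π.baseChange A = 0 := by
    refine LinearMap.ext fun z => ?_
    obtain ⟨w, rfl⟩ := h z
    rw [← LinearMap.comp_apply, ← LinearMap.baseChange_comp]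
    have : π.comp u = 0 := LinearMap.ext fun m => (Submodule.Quotient.mk_eq_zero _).2 ⟨m, rfl⟩
    rw [this, LinearMap.baseChange_zero]
    rfl
  obtain ⟨j, hj⟩ := exists_stage_baseChange_eq_zero hd hs hk π hC
  refine ⟨j, fun n => ?_⟩
  have hex := rTensor_exact (G j) (LinearMap.exact_map_mkQ_range u) (Submodule.mkQ_surjective _)
  exact (hex (n ⊗ₜ (1 : G j))).1 (hj n)

/-- Surjectivity of a base change, on elements. -/
theorem baseChange_surjective_of {B : Type u} [CommRing B] [Algebra A₀ B]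
    (h : ∀ n, n ⊗ₜ[A₀] (1 : B) ∈ LinearMap.range (u.rTensor B)) : Function.Surjective (u.baseChange B) := by
  intro z
  induction z using TensorProduct.induction_on with
  | zero => exact ⟨0, map_zero _⟩
  | add x y hx hy =>
    obtain ⟨a, rfl⟩ := hx
    obtain ⟨b, rfl⟩ := hy
    exact ⟨a + b, map_add _ _ _⟩
  | tmul b n =>
    obtain ⟨w, hw⟩ := h n
    refine ⟨b • (TensorProduct.comm A₀ M B w), ?_⟩
    have e : u.baseChange B (TensorProduct.comm A₀ M B w) = TensorProduct.comm A₀ N B (u.rTensor B w) := by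
      clear hw
      induction w using TensorProduct.induction_on with
      | zero => simp
      | tmul m c => simp
      | add x y hx hy => simp only [map_add, hx, hy]
    rw [map_smul, e, hw, TensorProduct.comm_tmul, TensorProduct.smul_tmul', smul_eq_mul, mul_one]

include hd hs hk in
/-- A map from a finite to a finitely presented module which is bijective in the limit has an inverse at a stage. -/
theorem exists_stage_inverse [Nonempty ι] [Module.Finite A₀ M] [Module.FinitePresentation A₀ N]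
    (h : Function.Bijective (u.baseChange A)) :
    ∃ (j : ι) (v : N →ₗ[A₀] M ⊗[A₀] G j), (∀ n, u.rTensor (G j) (v n) = n ⊗ₜ 1) ∧ ∀ m, v (u m) = m ⊗ₜ 1 := by
  classical
  obtain ⟨i₀⟩ := ‹Nonempty ι›
  obtain ⟨p, q, hq, hK⟩ : ∃ (p : ℕ) (q : (Fin p → A₀) →ₗ[A₀] N), Function.Surjective q ∧ (LinearMap.ker q).FG :=
    let ⟨p, q, hq⟩ := Module.Finite.exists_fin' A₀ N
    ⟨p, q, hq, Module.FinitePresentation.fg_ker q hq⟩
  obtain ⟨R, hR⟩ := hK
  obtain ⟨sM, hsM⟩ := Module.Finite.fg_top (R := A₀) (M := M)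
  let T := (baseSys hs hk).tensor hd M
  let U := (baseSys hs hk).tensor hd N
  have hbij : Function.Bijective (u.rTensor A) := by
    have e : (TensorProduct.comm A₀ A N).toLinearMap.comp ((u.baseChange A).restrictScalars A₀) =
        (u.rTensor A).comp (TensorProduct.comm A₀ A M).toLinearMap := by ext a m; rfl
    have e' : ⇑(u.rTensor A) ∘ ⇑(TensorProduct.comm A₀ A M) = ⇑(TensorProduct.comm A₀ A N) ∘ ⇑(u.baseChange A) :=
      funext fun z => (LinearMap.congr_fun e z).symm
    have := (TensorProduct.comm A₀ A N).bijective.comp h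
    rw [← e', Function.Bijective.of_comp_iff _ (TensorProduct.comm A₀ A M).bijective] at this
    exact this
  choose w hw using fun k : Fin p => hbij.2 (q (Pi.single k 1) ⊗ₜ[A₀] (1 : A))
  obtain ⟨j₁, -, y, hy⟩ := T.lift_finset hd Finset.univ i₀ w
  -- naturality of steps
  have nat : ∀ {i l} (a : Step g i l) (z : M ⊗[A₀] G i),
      u.rTensor (G l) (T.act a z) = U.act a (u.rTensor (G i) z) := fun a z =>
    LinearMap.congr_fun ((LinearMap.rTensor_comp_lTensor ..).trans (LinearMap.lTensor_comp_rTensor ..).symm) z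
  have natψ : ∀ {i} (z : M ⊗[A₀] G i), u.rTensor A (T.ψ i z) = U.ψ i (u.rTensor (G i) z) := fun z =>
    LinearMap.congr_fun ((LinearMap.rTensor_comp_lTensor ..).trans (LinearMap.lTensor_comp_rTensor ..).symm) z
  let V₁ : (Fin p → A₀) →ₗ[A₀] M ⊗[A₀] G j₁ := Fintype.linearCombination A₀ y
  have hV₁ : ∀ r, u.rTensor A (T.ψ j₁ (V₁ r)) = q r ⊗ₜ[A₀] (1 : A) := by
    have : (u.rTensor A).comp ((T.ψ j₁).comp V₁) = ((TensorProduct.mk A₀ N A).flip 1).comp q := by
      refine (Pi.basisFun A₀ (Fin p)).ext fun k => ?_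
      show u.rTensor A (T.ψ j₁ (V₁ (Pi.basisFun A₀ (Fin p) k))) = q (Pi.basisFun A₀ (Fin p) k) ⊗ₜ[A₀] (1 : A)
      rw [Pi.basisFun_apply, Fintype.linearCombination_apply_single, one_smul, hy k (Finset.mem_univ k), hw]
    exact fun r => LinearMap.congr_fun this r
  -- the relations and both identities, killed at a stage
  choose lift hlift using fun m : M => hq (u m)
  obtain ⟨j₂, a₂, ha₂⟩ := T.kill_finset (i := j₁) ((R.image V₁) ∪ sM.image fun m => V₁ (lift m) - m ⊗ₜ 1) id (by
    intro z hz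
    rcases Finset.mem_union.1 hz with hz | hz
    · obtain ⟨r, hr, rfl⟩ := Finset.mem_image.1 hz
      refine hbij.1 ?_
      rw [map_zero]
      refine (hV₁ r).trans ?_
      rw [show q r = 0 from LinearMap.mem_ker.1 (hR ▸ Submodule.subset_span hr), zero_tmul]
    · obtain ⟨m, -, rfl⟩ := Finset.mem_image.1 hz
      refine hbij.1 ?_
      rw [map_zero]
      show u.rTensor A (T.ψ j₁ (V₁ (lift m) - m ⊗ₜ 1)) = 0
      rw [map_sub, map_sub, hV₁, hlift, natψ, LinearMap.rTensor_tmul]
      exact sub_eq_zero.2 (lTensor_one_tmul (g j₁) (u m)).symm)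
  obtain ⟨j₃, a₃, ha₃⟩ := U.kill_finset (i := j₂) (Finset.univ : Finset (Fin p))
    (fun k => u.rTensor (G j₂) (T.act a₂ (V₁ (Pi.single k 1))) - q (Pi.single k 1) ⊗ₜ 1) (by
    intro k _
    rw [map_sub, ← natψ, T.ψ_act, hV₁]
    exact sub_eq_zero.2 (lTensor_one_tmul (g j₂) _).symm)
  let V₃ : (Fin p → A₀) →ₗ[A₀] M ⊗[A₀] G j₃ := (T.act a₃).comp ((T.act a₂).comp V₁)
  have hker : LinearMap.ker q ≤ LinearMap.ker V₃ := by
    rw [← hR, Submodule.span_le]
    intro r hr
    show T.act a₃ (T.act a₂ (V₁ r)) = 0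
    rw [show T.act a₂ (V₁ r) = 0 from ha₂ _ (Finset.mem_union_left _ (Finset.mem_image_of_mem V₁ hr)), map_zero]
  let e := q.quotKerEquivOfSurjective hq
  let v : N →ₗ[A₀] M ⊗[A₀] G j₃ := ((LinearMap.ker q).liftQ V₃ hker).comp e.symm.toLinearMap
  have hv : ∀ r, v (q r) = V₃ r := fun r => by
    show (LinearMap.ker q).liftQ V₃ hker (e.symm (q r)) = _
    rw [show e.symm (q r) = Submodule.Quotient.mk r from
      e.symm_apply_eq.2 (LinearMap.quotKerEquivOfSurjective_apply_mk q hq r).symm]
    exact Submodule.liftQ_apply _ _ _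
  refine ⟨j₃, v, fun n => ?_, fun m => ?_⟩
  · obtain ⟨r, rfl⟩ := hq n
    rw [hv]
    have : (u.rTensor (G j₃)).comp V₃ = ((TensorProduct.mk A₀ N (G j₃)).flip 1).comp q := by
      refine (Pi.basisFun A₀ (Fin p)).ext fun k => ?_
      rw [Pi.basisFun_apply]
      show u.rTensor (G j₃) (T.act a₃ (T.act a₂ (V₁ (Pi.single k 1)))) = q (Pi.single k 1) ⊗ₜ[A₀] (1 : G j₃)
      have h0 := ha₃ k (Finset.mem_univ k)
      rw [map_sub, sub_eq_zero] at h0
      rw [nat, h0]
      exact lTensor_one_tmul a₃.hom _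
    exact LinearMap.congr_fun this r
  · have : v.comp u = (TensorProduct.mk A₀ M (G j₃)).flip 1 := by
      refine LinearMap.ext_on hsM fun m hm => ?_
      show v (u m) = m ⊗ₜ[A₀] (1 : G j₃)
      rw [← hlift m, hv]
      show T.act a₃ (T.act a₂ (V₁ (lift m))) = _
      have h0 := ha₂ _ (Finset.mem_union_right _ (Finset.mem_image_of_mem _ hm))
      simp only [id_eq, map_sub, sub_eq_zero] at h0
      rw [h0]
      exact (congrArg (T.act a₃) (lTensor_one_tmul a₂.hom m)).trans (lTensor_one_tmul a₃.hom m)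
    exact LinearMap.congr_fun this m

/-- Bijectivity of a base change from an inverse, on elements. -/
theorem baseChange_bijective_of {B : Type u} [CommRing B] [Algebra A₀ B] (v : N →ₗ[A₀] M ⊗[A₀] B)
    (h₁ : ∀ n, u.rTensor B (v n) = n ⊗ₜ 1) (h₂ : ∀ m, v (u m) = m ⊗ₜ 1) :
    Function.Bijective (u.baseChange B) := by
  let v' : N →ₗ[A₀] B ⊗[A₀] M := (TensorProduct.comm A₀ M B).toLinearMap.comp v
  let V : B ⊗[A₀] N →ₗ[B] B ⊗[A₀] M := v'.liftBaseChange B
  have e : ∀ w, u.baseChange B (TensorProduct.comm A₀ M B w) = TensorProduct.comm A₀ N B (u.rTensor B w) := by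
    intro w
    induction w using TensorProduct.induction_on with
    | zero => simp
    | tmul m c => simp
    | add x y hx hy => simp only [map_add, hx, hy]
  refine Function.bijective_iff_has_inverse.2 ⟨V, fun z => ?_, fun z => ?_⟩
  · induction z using TensorProduct.induction_on with
    | zero => simp
    | add x y hx hy => rw [map_add, map_add, hx, hy]
    | tmul b m =>
      simp only [V, v', LinearMap.baseChange_tmul, LinearMap.liftBaseChange_tmul, LinearMap.comp_apply,
        LinearEquiv.coe_coe, h₂, TensorProduct.comm_tmul, TensorProduct.smul_tmul', smul_eq_mul, mul_one]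
  · induction z using TensorProduct.induction_on with
    | zero => simp
    | add x y hx hy => rw [map_add, map_add, hx, hy]
    | tmul b n =>
      simp only [V, v', LinearMap.liftBaseChange_tmul, LinearMap.comp_apply, LinearEquiv.coe_coe, map_smul, e,
        h₁, TensorProduct.comm_tmul, TensorProduct.smul_tmul', smul_eq_mul, mul_one]

end Groth.Agent.FlatFunLib
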