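import Groth.Agent.DCohBridge.StalkPull
import Groth.Agent.DCohBridge.PushProj
import Groth.Agent.GrpSch.FlatPoint
import Groth.Agent.FpqcDescent.FlatFactor
import Mathlib.RingTheory.Flat.FaithfullyFlat.Basic

/-!
# Maps of modules, stalks and pullbacks
-/

set_option autoImplicit false
set_option backward.isDefEq.respectTransparency false

universe u

open CategoryTheory Limits AlgebraicGeometry Opposite TensorProduct

namespace Groth.Agent.FlatFunLib

open Groth.Agent.DCohBridge

variable {X X' : Scheme.{u}} {M N : X.Modules}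

/-- The map on stalks. -/
noncomputable abbrev st (u : M ⟶ N) (x : X) :
    (DerSch.stalkFunctor X x).obj M ⟶ (DerSch.stalkFunctor X x).obj N :=
  (DerSch.stalkFunctor X x).map u

theorem eq_zero_iff_stalk {u : M ⟶ N} : u = 0 ↔ ∀ x : X, st u x = 0 := by
  refine ⟨fun h x => by rw [h]; exact Functor.map_zero _ _ _, fun h => ?_⟩
  apply Scheme.Modules.hom_ext
  intro U
  ext s
  refine TopCat.Presheaf.section_ext (C := AddCommGrpCat.{u}) ⟨N.presheaf, N.isSheaf⟩ U _ _ fun y hy => ?_
  have e := DerSch.stalkFunctor_map_germ y u U hy s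
  have e' : (st u y) (M.presheaf.germ U y hy s) = 0 := by rw [h y]; rfl
  refine (e.symm.trans e').trans ?_
  exact (map_zero (N.presheaf.germ U y hy).hom).symm

theorem epi_iff_stalk {u : M ⟶ N} : Epi u ↔ ∀ x : X, Function.Surjective (st u x) := by
  refine ⟨fun _ x => ?_, fun h => ?_⟩
  · exact (ModuleCat.epi_iff_surjective _).1 inferInstance
  · refine Preadditive.epi_of_isZero_cokernel u (isZero_of_stalk fun x => ?_)
    haveI : Epi (st u x) := (ModuleCat.epi_iff_surjective _).2 (h x)
    exact (isZero_cokernel_of_epi (st u x)).of_iso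
      (PreservesCokernel.iso (DerSch.stalkFunctor X x) u)

theorem mono_iff_stalk {u : M ⟶ N} : Mono u ↔ ∀ x : X, Function.Injective (st u x) := by
  refine ⟨fun _ x => ?_, fun h => ?_⟩
  · exact (ModuleCat.mono_iff_injective _).1 inferInstance
  · refine Preadditive.mono_of_isZero_kernel u (isZero_of_stalk fun x => ?_)
    haveI : Mono (st u x) := (ModuleCat.mono_iff_injective _).2 (h x)
    exact (isZero_kernel_of_mono (st u x)).of_iso
      (PreservesKernel.iso (DerSch.stalkFunctor X x) u)

theorem isIso_iff_stalk {u : M ⟶ N} : IsIso u ↔ ∀ x : X, Function.Bijective (st u x) :=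
  ⟨fun _ _ => ConcreteCategory.bijective_of_isIso _, isIso_of_stalk_bijective u⟩

section Pull

variable (g : X' ⟶ X) (u : M ⟶ N) (x' : X')

/-- The base change of the map on stalks. -/
theorem st_pullback :
    st ((Scheme.Modules.pullback g).map u) x' =
      ((stalkPullIso g x').app M).hom ≫ (extSt g x').map (st u (g.base x')) ≫ ((stalkPullIso g x').app N).inv := by
  have h := (stalkPullIso g x').hom.naturality u
  rw [← Category.assoc, Iso.eq_comp_inv]
  exact h

theorem st_pullback_eq_zero (h : st u (g.base x') = 0) : st ((Scheme.Modules.pullback g).map u) x' = 0 := by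
  rw [st_pullback, h, Functor.map_zero, zero_comp, comp_zero]

theorem bijective_comp_iso {A B C D : ModuleCat.{u} (X'.presheaf.stalk x')} (e : A ≅ B) (f : B ⟶ C) (e' : D ≅ C) :
    (Function.Surjective (e.hom ≫ f ≫ e'.inv) ↔ Function.Surjective f) ∧
    (Function.Injective (e.hom ≫ f ≫ e'.inv) ↔ Function.Injective f) := by
  have h1 : Function.Bijective e.hom := ConcreteCategory.bijective_of_isIso e.hom
  have h2 : Function.Bijective e'.inv := ConcreteCategory.bijective_of_isIso e'.inv
  have e₀ : (e.hom ≫ f ≫ e'.inv : A → D) = e'.inv ∘ f ∘ e.hom := rfl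
  constructor
  · rw [e₀]
    exact ⟨fun h => ((h.of_comp_left h2.injective).of_comp), fun h => h2.surjective.comp (h.comp h1.surjective)⟩
  · rw [e₀]
    exact ⟨fun h => (h.of_comp.of_comp_right h1.surjective), fun h => h2.injective.comp (h.comp h1.injective)⟩

theorem surjective_pullback_iff :
    Function.Surjective (st ((Scheme.Modules.pullback g).map u) x') ↔
      Function.Surjective ((extSt g x').map (st u (g.base x'))) := by
  rw [st_pullback]
  exact (bijective_comp_iso x' _ _ _).1

theorem injective_pullback_iff :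
    Function.Injective (st ((Scheme.Modules.pullback g).map u) x') ↔
      Function.Injective ((extSt g x').map (st u (g.base x'))) := by
  rw [st_pullback]
  exact (bijective_comp_iso x' _ _ _).2

variable (hg : (g.stalkMap x').hom.Flat)

include hg in
/-- Along a flat local homomorphism the base change of stalks is faithful. -/
theorem faithful_pullback :
    (Function.Surjective (st ((Scheme.Modules.pullback g).map u) x') ↔ Function.Surjective (st u (g.base x'))) ∧
    (Function.Injective (st ((Scheme.Modules.pullback g).map u) x') ↔ Function.Injective (st u (g.base x'))) ∧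
    (st ((Scheme.Modules.pullback g).map u) x' = 0 ↔ st u (g.base x') = 0) := by
  letI := (stφ g x').toAlgebra
  haveI : Module.FaithfullyFlat (X.presheaf.stalk (g.base x')) (X'.presheaf.stalk x') :=
    FpqcDescent.faithfullyFlat_stalkMap g x' hg
  have e : ∀ z, (extSt g x').map (st u (g.base x')) z =
      LinearMap.lTensor (X'.presheaf.stalk x') (st u (g.base x')).hom z := fun _ => rfl
  refine ⟨?_, ?_, ⟨fun h => ?_, st_pullback_eq_zero g u x'⟩⟩
  · rw [surjective_pullback_iff]
    exact Module.FaithfullyFlat.lTensor_surjective_iff_surjective (X.presheaf.stalk (g.base x')) (X'.presheaf.stalk x')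
      (st u (g.base x')).hom
  · rw [injective_pullback_iff]
    exact Module.FaithfullyFlat.lTensor_injective_iff_injective (X.presheaf.stalk (g.base x')) (X'.presheaf.stalk x')
      (st u (g.base x')).hom
  · rw [st_pullback] at h
    have h' : (extSt g x').map (st u (g.base x')) = 0 := by
      rwa [← cancel_epi ((stalkPullIso g x').app M).hom, comp_zero,
        ← cancel_mono ((stalkPullIso g x').app N).inv, zero_comp, Category.assoc]
    refine ModuleCat.hom_ext ((Module.FaithfullyFlat.zero_iff_lTensor_zero _ (X'.presheaf.stalk x') _).2 ?_)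
    refine LinearMap.ext fun z => (e z).symm.trans ?_
    rw [h']
    rfl

end Pull

section Global

variable (g : X' ⟶ X) (u : M ⟶ N) [Flat g] [Surjective g]

theorem mono_of_mono_pullback [Mono ((Scheme.Modules.pullback g).map u)] : Mono u := by
  rw [mono_iff_stalk]
  intro x
  obtain ⟨x', rfl⟩ := g.surjective x
  exact (faithful_pullback g u x' (Flat.stalkMap g x')).2.1.1 (mono_iff_stalk.1 inferInstance x')

omit [Surjective g] in
theorem mono_pullback [Mono u] : Mono ((Scheme.Modules.pullback g).map u) := by
  rw [mono_iff_stalk]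
  exact fun x' => (faithful_pullback g u x' (Flat.stalkMap g x')).2.1.2 (mono_iff_stalk.1 inferInstance _)

end Global

/-- Conditions on a map of modules which are local on stalks. -/
theorem of_jointly_surjective {ι : Type*} {X' : ι → Scheme.{u}} (g : ∀ i, X' i ⟶ X) [∀ i, Flat (g i)]
    (hs : ∀ x : X, ∃ (i : ι) (x' : X' i), g i x' = x) (u : M ⟶ N) :
    ((∀ i, Epi ((Scheme.Modules.pullback (g i)).map u)) → Epi u) ∧
    ((∀ i, Mono ((Scheme.Modules.pullback (g i)).map u)) → Mono u) ∧
    ((∀ i, IsIso ((Scheme.Modules.pullback (g i)).map u)) → IsIso u) ∧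
    ((∀ i, (Scheme.Modules.pullback (g i)).map u = 0) → u = 0) := by
  refine ⟨fun h => epi_iff_stalk.2 fun x => ?_, fun h => mono_iff_stalk.2 fun x => ?_,
    fun h => isIso_iff_stalk.2 fun x => ?_, fun h => eq_zero_iff_stalk.2 fun x => ?_⟩ <;>
  obtain ⟨i, x', rfl⟩ := hs x
  · exact (faithful_pullback (g i) u x' (Flat.stalkMap _ x')).1.1 (epi_iff_stalk.1 (h i) x')
  · exact (faithful_pullback (g i) u x' (Flat.stalkMap _ x')).2.1.1 (mono_iff_stalk.1 (h i) x')
  · have := isIso_iff_stalk.1 (h i) x'
    exact ⟨(faithful_pullback (g i) u x' (Flat.stalkMap _ x')).2.1.1 this.1,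
      (faithful_pullback (g i) u x' (Flat.stalkMap _ x')).1.1 this.2⟩
  · exact (faithful_pullback (g i) u x' (Flat.stalkMap _ x')).2.2.1 (eq_zero_iff_stalk.1 (h i) x')

end Groth.Agent.FlatFunLib
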