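import Groth.Agent.BCModel.SectPull
import Groth.Agent.FinLocFreeSections.Rank
import Groth.Agent.FlatFunLib.Stalk
import Groth.Agent.FlatFunLib.LimitAlg

/-!
# Maps of quasi-coherent modules on affine opens and their pullbacks
-/

set_option autoImplicit false
set_option backward.isDefEq.respectTransparency false

universe u

open CategoryTheory Limits AlgebraicGeometry Opposite TensorProduct
open Groth.Agent.GenLocus Groth.Agent.FlatOver

namespace Groth.Agent.FlatFunLib

variable {X X' : Scheme.{u}} {M N : X.Modules} (u : M ⟶ N)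

/-- A map of modules on sections, linearly. -/
noncomputable def appₗ (W : X.Opens) : Γ(M, W) →ₗ[Γ(X, W)] Γ(N, W) where
  toFun := u.app W
  map_add' := map_add _
  map_smul' r m := Scheme.Modules.Hom.app_smul u r m

theorem st_smul_germ {W : X.Opens} {x : X} (hx : x ∈ W) (c : X.presheaf.stalk x) (m : Γ(M, W)) :
    st u x (c • M.presheaf.germ W x hx m) = c • N.presheaf.germ W x hx (u.app W m) :=
  ((st u x).hom.map_smul c _).trans (congrArg (c • ·) (DerSch.stalkFunctor_map_germ x u W hx m))

section Local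

variable [M.IsQuasicoherent] [N.IsQuasicoherent] {W : X.Opens} (hW : IsAffineOpen W)

omit [N.IsQuasicoherent] in
include hW in
theorem st_eq_zero_of_appₗ (h : appₗ u W = 0) {x : X} (hx : x ∈ W) : st u x = 0 := by
  refine ModuleCat.hom_ext (LinearMap.ext fun z => ?_)
  obtain ⟨c, m, rfl⟩ := FinLocFreeSections.exists_smul_germ M hW hx z
  refine (st_smul_germ u hx c m).trans ?_
  rw [show u.app W m = 0 from LinearMap.congr_fun h m, map_zero, smul_zero]
  rfl

omit [M.IsQuasicoherent] in
include hW in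
theorem surjective_st_of_appₗ (h : Function.Surjective (appₗ u W)) {x : X} (hx : x ∈ W) :
    Function.Surjective (st u x) := fun z => by
  obtain ⟨c, n, rfl⟩ := FinLocFreeSections.exists_smul_germ N hW hx z
  obtain ⟨m, rfl⟩ := h n
  exact ⟨c • M.presheaf.germ W x hx m, st_smul_germ u hx c m⟩

include hW in
/-- The stalk map is the localisation of the map on sections. -/
theorem map_germ_eq {x : X} (hx : x ∈ W) :
    letI := germModule M x hx
    letI := germModule N x hx
    haveI := isLocalizedModule_germₗ M hW x hx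
    haveI := isLocalizedModule_germₗ N hW x hx
    ⇑(IsLocalizedModule.map (hW.primeIdealOf ⟨x, hx⟩).asIdeal.primeCompl (germₗ M x hx) (germₗ N x hx) (appₗ u W)) =
      ⇑(st u x) := by
  letI := germModule M x hx
  letI := germModule N x hx
  haveI := isLocalizedModule_germₗ M hW x hx
  haveI := isLocalizedModule_germₗ N hW x hx
  let σ : M.presheaf.stalk x →ₗ[Γ(X, W)] N.presheaf.stalk x :=
    { toFun := st u x
      map_add' := map_add _
      map_smul' := fun r z => (st u x).hom.map_smul (X.presheaf.germ W x hx r) z }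
  have : IsLocalizedModule.map (hW.primeIdealOf ⟨x, hx⟩).asIdeal.primeCompl (germₗ M x hx) (germₗ N x hx) (appₗ u W) = σ := by
    refine IsLocalizedModule.linearMap_ext (hW.primeIdealOf ⟨x, hx⟩).asIdeal.primeCompl (germₗ M x hx) (germₗ N x hx) ?_
    rw [IsLocalizedModule.map_comp]
    exact LinearMap.ext fun m => (DerSch.stalkFunctor_map_germ x u W hx m).symm
  rw [this]
  rfl

include hW in
theorem surjective_appₗ_of_st (h : ∀ x ∈ W, Function.Surjective (st u x)) : Function.Surjective (appₗ u W) := by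
  have hpt : ∀ (P : Ideal Γ(X, W)) [P.IsMaximal], ∃ (x : X) (hx : x ∈ W),
      (hW.primeIdealOf ⟨x, hx⟩).asIdeal = P := fun P _ => AssPts.exists_point hW P
  choose pt hpt' heq using hpt
  letI mM : ∀ (P : Ideal Γ(X, W)) [P.IsMaximal], Module Γ(X, W) (M.presheaf.stalk (pt P)) :=
    fun P _ => germModule M (pt P) (hpt' P)
  letI mN : ∀ (P : Ideal Γ(X, W)) [P.IsMaximal], Module Γ(X, W) (N.presheaf.stalk (pt P)) :=
    fun P _ => germModule N (pt P) (hpt' P)
  haveI hM : ∀ (P : Ideal Γ(X, W)) [P.IsMaximal], IsLocalizedModule.AtPrime P (germₗ M (pt P) (hpt' P)) :=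
    fun P _ => by
      have := isLocalizedModule_germₗ M hW (pt P) (hpt' P)
      simp only [heq P] at this
      exact this
  haveI hN : ∀ (P : Ideal Γ(X, W)) [P.IsMaximal], IsLocalizedModule.AtPrime P (germₗ N (pt P) (hpt' P)) :=
    fun P _ => by
      have := isLocalizedModule_germₗ N hW (pt P) (hpt' P)
      simp only [heq P] at this
      exact this
  refine surjective_of_isLocalized_maximal (fun P _ => M.presheaf.stalk (pt P))
    (fun P _ => germₗ M (pt P) (hpt' P)) (fun P _ => N.presheaf.stalk (pt P))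
    (fun P _ => germₗ N (pt P) (hpt' P)) (appₗ u W) fun P _ => ?_
  have h' := map_germ_eq u hW (hpt' P)
  simp only [heq P] at h'
  rw [h']
  exact h _ (hpt' P)

include hW in
theorem bijective_st_of_appₗ (h : Function.Bijective (appₗ u W)) {x : X} (hx : x ∈ W) :
    Function.Bijective (st u x) := by
  letI := germModule M x hx
  letI := germModule N x hx
  haveI := isLocalizedModule_germₗ M hW x hx
  haveI := isLocalizedModule_germₗ N hW x hx
  have e := map_germ_eq u hW hx
  exact ⟨e ▸ IsLocalizedModule.map_injective (hW.primeIdealOf ⟨x, hx⟩).asIdeal.primeCompl (germₗ M x hx)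
      (germₗ N x hx) (appₗ u W) h.1,
    e ▸ IsLocalizedModule.map_surjective (hW.primeIdealOf ⟨x, hx⟩).asIdeal.primeCompl (germₗ M x hx)
      (germₗ N x hx) (appₗ u W) h.2⟩

end Local

section Global

variable [M.IsQuasicoherent] [N.IsQuasicoherent] {ι : Type*} {W : ι → X.Opens} (hW : ∀ k, IsAffineOpen (W k))
  (hcov : ∀ x : X, ∃ k, x ∈ W k)

omit [N.IsQuasicoherent] in
include hW hcov in
theorem eq_zero_iff_appₗ : u = 0 ↔ ∀ k, appₗ u (W k) = 0 :=
  ⟨fun h k => by subst h; exact LinearMap.ext fun m => rfl,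
    fun h => eq_zero_iff_stalk.2 fun x => let ⟨k, hk⟩ := hcov x; st_eq_zero_of_appₗ u (hW k) (h k) hk⟩

include hW hcov in
theorem epi_iff_appₗ : Epi u ↔ ∀ k, Function.Surjective (appₗ u (W k)) :=
  ⟨fun h k => surjective_appₗ_of_st u (hW k) fun x _ => epi_iff_stalk.1 h x,
    fun h => epi_iff_stalk.2 fun x => let ⟨k, hk⟩ := hcov x; surjective_st_of_appₗ u (hW k) (h k) hk⟩

include hW hcov in
theorem isIso_iff_appₗ : IsIso u ↔ ∀ k, Function.Bijective (appₗ u (W k)) := by
  refine ⟨fun h k => ?_, fun h => isIso_iff_stalk.2 fun x => let ⟨k, hk⟩ := hcov x; bijective_st_of_appₗ u (hW k) (h k) hk⟩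
  have := Scheme.Modules.Hom.isIso_iff_isIso_app.1 h (W k)
  exact ConcreteCategory.bijective_of_isIso (u.app (W k))

end Global

section Pull

variable (g : X' ⟶ X) [M.IsQuasicoherent] [N.IsQuasicoherent] {W : X.Opens} (hW : IsAffineOpen W)
  (hW' : IsAffineOpen (g ⁻¹ᵁ W))

include hW hW' in
/-- On an affine with affine preimage the pullback of a map is its base change. -/
theorem appₗ_pullback_iff :
    letI := (g.app W).hom.toAlgebra
    (appₗ ((Scheme.Modules.pullback g).map u) (g ⁻¹ᵁ W) = 0 ↔ (appₗ u W).baseChange Γ(X', g ⁻¹ᵁ W) = 0) ∧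
    (Function.Surjective (appₗ ((Scheme.Modules.pullback g).map u) (g ⁻¹ᵁ W)) ↔
      Function.Surjective ((appₗ u W).baseChange Γ(X', g ⁻¹ᵁ W))) ∧
    (Function.Bijective (appₗ ((Scheme.Modules.pullback g).map u) (g ⁻¹ᵁ W)) ↔
      Function.Bijective ((appₗ u W).baseChange Γ(X', g ⁻¹ᵁ W))) := by
  letI := (g.app W).hom.toAlgebra
  letI := BCModel.pullModule g M W
  letI := BCModel.pullModule g N W
  haveI : IsScalarTower Γ(X, W) Γ(X', g ⁻¹ᵁ W) Γ((Scheme.Modules.pullback g).obj M, g ⁻¹ᵁ W) :=
    .of_algebraMap_smul fun _ _ => rfl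
  haveI : IsScalarTower Γ(X, W) Γ(X', g ⁻¹ᵁ W) Γ((Scheme.Modules.pullback g).obj N, g ⁻¹ᵁ W) :=
    .of_algebraMap_smul fun _ _ => rfl
  let eM := (BCModel.isBaseChange_pullSec g M hW hW').equiv
  let eN := (BCModel.isBaseChange_pullSec g N hW hW').equiv
  have key : ∀ z, appₗ ((Scheme.Modules.pullback g).map u) (g ⁻¹ᵁ W) (eM z) = eN ((appₗ u W).baseChange Γ(X', g ⁻¹ᵁ W) z) := by
    intro z
    induction z using TensorProduct.induction_on with
    | zero => simp
    | add x y hx hy => simp only [map_add, hx, hy]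
    | tmul b m =>
      rw [LinearMap.baseChange_tmul, IsBaseChange.equiv_tmul, IsBaseChange.equiv_tmul, map_smul]
      exact congrArg (b • ·) (pullSec_naturality g u m)
  have e₁ : ⇑(appₗ ((Scheme.Modules.pullback g).map u) (g ⁻¹ᵁ W)) ∘ ⇑eM = ⇑eN ∘ ⇑((appₗ u W).baseChange Γ(X', g ⁻¹ᵁ W)) :=
    funext key
  refine ⟨⟨fun h => LinearMap.ext fun z => eN.injective ?_, fun h => LinearMap.ext fun z => ?_⟩, ?_, ?_⟩
  · rw [← key, h, LinearMap.zero_apply, LinearMap.zero_apply, map_zero]
  · obtain ⟨z, rfl⟩ := eM.surjective z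
    rw [key, h, LinearMap.zero_apply, map_zero, LinearMap.zero_apply]
  · rw [← Function.Surjective.of_comp_iff _ eM.surjective, e₁, Function.Surjective.of_comp_iff' eN.bijective]
  · rw [← Function.Bijective.of_comp_iff _ eM.bijective, e₁, Function.Bijective.of_comp_iff' eN.bijective]

end Pull

end Groth.Agent.FlatFunLib
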