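import Groth.Prelude.Def_FlatCA
import Mathlib

/-!
# Local rings of finitely presented algebras are essentially of finite presentation
-/

set_option autoImplicit false

universe u

open CategoryTheory

namespace Groth.Agent.FlatFunLib

theorem essFinitePresentation_of_isLocalization {R A : Type u} [CommRing R] [CommRing A] [Algebra R A]
    [Algebra.FinitePresentation R A] (p : Ideal R) [p.IsPrime] (q : Ideal A) [q.IsPrime]
    (hpq : q.comap (algebraMap R A) = p)
    (Rp Aq : Type u) [CommRing Rp] [CommRing Aq] [Algebra R Rp] [IsLocalization.AtPrime Rp p]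
    [Algebra A Aq] [IsLocalization.AtPrime Aq q] [Algebra R Aq] [IsScalarTower R A Aq]
    [Algebra Rp Aq] [IsScalarTower R Rp Aq] : FlatCA.EssFinitePresentation Rp Aq := by
  let T := Algebra.algebraMapSubmonoid A p.primeCompl
  let S₀ := Localization T
  have hT : T ≤ q.primeCompl := by
    rintro _ ⟨r, hr, rfl⟩
    exact fun h => hr (hpq ▸ (Ideal.mem_comap.2 h))
  letI : Algebra Rp S₀ := IsLocalization.map S₀ (algebraMap R A)
    (show p.primeCompl ≤ T.comap (algebraMap R A) from p.primeCompl.le_comap_map) |>.toAlgebra
  letI : Algebra S₀ Aq := IsLocalization.localizationAlgebraOfSubmonoidLe S₀ Aq T q.primeCompl hT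
  haveI : IsScalarTower A S₀ Aq :=
    IsLocalization.localization_isScalarTower_of_submonoid_le S₀ Aq T q.primeCompl hT
  haveI : IsScalarTower R Rp S₀ := IsScalarTower.of_algebraMap_eq fun r => by
    rw [IsScalarTower.algebraMap_apply R A S₀]
    exact (IsLocalization.map_eq (Q := S₀)
      (show p.primeCompl ≤ T.comap (algebraMap R A) from p.primeCompl.le_comap_map) r).symm
  haveI : IsScalarTower Rp S₀ Aq := IsScalarTower.of_algebraMap_eq' <| by
    apply IsLocalization.ringHom_ext p.primeCompl
    rw [RingHom.comp_assoc, ← IsScalarTower.algebraMap_eq R Rp S₀,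
      IsScalarTower.algebraMap_eq R A S₀, ← RingHom.comp_assoc,
      ← IsScalarTower.algebraMap_eq A S₀ Aq, ← IsScalarTower.algebraMap_eq R A Aq,
      ← IsScalarTower.algebraMap_eq R Rp Aq]
  haveI : IsLocalization (q.primeCompl.map (algebraMap A S₀).toMonoidHom) Aq :=
    IsLocalization.isLocalization_of_submonoid_le S₀ Aq T q.primeCompl hT
  haveI : Algebra.IsPushout R Rp A S₀ := (Algebra.isPushout_of_isLocalization p.primeCompl Rp A S₀).symm
  haveI : Algebra.FinitePresentation Rp S₀ :=
    Algebra.FinitePresentation.equiv (Algebra.IsPushout.equiv R Rp A S₀)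
  exact ⟨S₀, inferInstance, inferInstance, inferInstance, inferInstance, _, inferInstance, ‹_›⟩

end Groth.Agent.FlatFunLib
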