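import Groth.Prelude.Def_FlatMod2
import Groth.Prelude.Def_DerSch2
import Mathlib.RingTheory.Flat.Basic

set_option autoImplicit false

universe u

open CategoryTheory AlgebraicGeometry

namespace Groth.Agent.FlatFunLib

theorem isFlatOverAt_of_iso {X S : Scheme.{u}} (q : X ⟶ S) {M N : X.Modules} (e : M ≅ N) (x : X)
    (h : FlatMod.IsFlatOverAt q M x) : FlatMod.IsFlatOverAt q N x := by
  let l : M.presheaf.stalk x ≃ₗ[X.presheaf.stalk x] N.presheaf.stalk x :=
    ((DerSch.stalkFunctor X x).mapIso e).toLinearEquiv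
  letI := FlatMod.moduleStalkOver q M x
  letI := FlatMod.moduleStalkOver q N x
  haveI : Module.Flat (S.presheaf.stalk (q.base x)) (M.presheaf.stalk x) := h
  exact Module.Flat.of_linearEquiv
    ({ l.symm.toAddEquiv with map_smul' := fun r m => l.symm.map_smul ((q.stalkMap x).hom r) m } :
      N.presheaf.stalk x ≃ₗ[S.presheaf.stalk (q.base x)] M.presheaf.stalk x)

end Groth.Agent.FlatFunLib
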