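import Groth.Agent.FlatFunLib.GenInj
import Groth.Agent.FinLocFreeSections.Rank
import Groth.Agent.DCohBridge.StalkPull
import Groth.Agent.FlatOverBC.Scheme
import Groth.Agent.GrpSch.FlatPoint
import Groth.Agent.FpqcDescent.FlatFactor

/-!
# Freeness at generic points of fibres
-/

set_option autoImplicit false
set_option backward.isDefEq.respectTransparency.types false

noncomputable section

universe u

open CategoryTheory Limits AlgebraicGeometry Opposite TensorProduct

namespace Groth.Agent.FlatFunLib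

variable {X X' T : Scheme.{u}}

/-- A module free of rank `p` near `x` has free stalk of rank `p`. -/
theorem nonempty_basis_stalk (F : X.Modules) [F.IsQuasicoherent] (p : ℕ) (x : X)
    (h : FlatFun.IsFreeOfRankNear F p x) :
    Nonempty (Module.Basis (ULift.{u} (Fin p)) (X.presheaf.stalk x) (F.presheaf.stalk x)) := by
  obtain ⟨U, hxU, ⟨t⟩⟩ := h
  obtain ⟨_, ⟨W, hW, rfl⟩, hxW, hWU⟩ := X.isBasis_affineOpens.exists_subset_of_mem_open hxU U.isOpen
  let t' := TensorMod.freeRestrict hWU t
  let e₁ : F.restrict hW.fromSpec ≅ tilde (ModuleCat.of Γ(X, W) (ULift.{u} (Fin p) →₀ Γ(X, W))) :=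
    ((Scheme.Modules.restrictFunctorCongr hW.isoSpec_inv_ι.symm) ≪≫
        Scheme.Modules.restrictFunctorComp hW.isoSpec.inv (Scheme.Opens.ι W)).app F ≪≫
      (Scheme.Modules.restrictFunctor hW.isoSpec.inv).mapIso t' ≪≫
      TensorMod.restrictFreeModIso hW.isoSpec.inv p ≪≫ TensorMod.freeModIso _ p ≪≫
      (tildeFinsupp _).symm
  let e := ((tilde.isoTop _).toLinearEquiv.trans
      ((moduleSpecΓFunctor (R := Γ(X, W))).mapIso e₁).symm.toLinearEquiv).trans (QCohBase.sectionsEquiv F hW)
  let b : Module.Basis (ULift.{u} (Fin p)) Γ(X, W) Γ(F, W) := Module.Basis.ofRepr e.symm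
  letI := FlatOver.germModule F x hxW
  letI : Algebra Γ(X, W) (X.presheaf.stalk x) := (X.presheaf.germ W x hxW).hom.toAlgebra
  haveI : IsLocalization.AtPrime (X.presheaf.stalk x) (hW.primeIdealOf ⟨x, hxW⟩).asIdeal :=
    hW.isLocalization_stalk ⟨x, hxW⟩
  haveI : IsScalarTower Γ(X, W) (X.presheaf.stalk x) (F.presheaf.stalk x) :=
    .of_algebraMap_smul fun r z => rfl
  haveI := FlatOver.isLocalizedModule_germₗ F hW x hxW
  exact ⟨b.ofIsLocalizedModule (X.presheaf.stalk x)
    (hW.primeIdealOf ⟨x, hxW⟩).asIdeal.primeCompl (FlatOver.germₗ F x hxW)⟩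

/-- Free stalks descend along flat local homomorphisms. -/
theorem free_stalk_of_pullback (g : X' ⟶ X) (x' : X') (hg : (g.stalkMap x').hom.Flat)
    (F : X.Modules) [F.IsQuasicoherent] (hF : CohB1.IsFT F) (p : ℕ)
    (h : Nonempty (Module.Basis (ULift.{u} (Fin p)) (X'.presheaf.stalk x')
      (((Scheme.Modules.pullback g).obj F).presheaf.stalk x'))) :
    Module.Free (X.presheaf.stalk (g x')) (F.presheaf.stalk (g x')) ∧
      Module.finrank (X.presheaf.stalk (g x')) (F.presheaf.stalk (g x')) = p := by
  obtain ⟨b⟩ := h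
  let O := X.presheaf.stalk (g x')
  let O' := X'.presheaf.stalk x'
  let M := F.presheaf.stalk (g x')
  letI : Algebra O O' := (g.stalkMap x').hom.toAlgebra
  haveI : Module.FaithfullyFlat O O' := FpqcDescent.faithfullyFlat_stalkMap g x' hg
  let e : ((Scheme.Modules.pullback g).obj F).presheaf.stalk x' ≃ₗ[O'] O' ⊗[O] M :=
    ((DCohBridge.stalkPullIso g x').app F).toLinearEquiv
  let b' := b.map e
  haveI : Module.Free O' (O' ⊗[O] M) := Module.Free.of_basis b'
  haveI : Module.Flat O (O' ⊗[O] M) := Module.Flat.trans O O' _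
  haveI : Module.Flat O M := FlatOverBC.flat_of_flat_baseChange O O O' M
  haveI : Module.Finite O M := QuasiFlatLib.finite_stalk F ⟨inferInstance, hF⟩ (g x')
  haveI : Module.Free O M := Module.free_of_flat_of_isLocalRing
  refine ⟨inferInstance, ?_⟩
  have h1 : Module.finrank O' (O' ⊗[O] M) = p := by
    rw [Module.finrank_eq_nat_card_basis b']; simp
  rwa [Module.finrank_baseChange] at h1

/-- If over every point of the base a generic point of the fibre has free stalk of rank `p`, then
the module is free of rank `p` near each of them. -/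
theorem isFreeOfRankNear_of_stalks (q : X ⟶ T) [Smooth q] [GeometricallyIrreducible q]
    (F : X.Modules) [F.IsQuasicoherent] (hF : CohB1.IsFT F) (p : ℕ)
    (h : ∀ t : T, ∃ ξ : X, q ξ = t ∧ FlatFun.IsGenericPtOfFibre q ξ ∧
      Module.Free (X.presheaf.stalk ξ) (F.presheaf.stalk ξ) ∧
        Module.finrank (X.presheaf.stalk ξ) (F.presheaf.stalk ξ) = p) :
    FlatFun.FreeAtGenericPts q F p := by
  intro t
  obtain ⟨x, hxt, hxg, hfree, hrk⟩ := h t
  refine ⟨x, hxt, hxg, ?_⟩
  haveI := hfree
  have hfr : FinLocFreeSections.fibreRank F x = p :=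
    (FinLocFreeSections.fibreRank_eq_of_free F x).trans hrk
  obtain ⟨D, hD, hxD, -, s, hs⟩ := FinLocFreeSections.exists_generators F hF x (O := ⊤) trivial
  suffices LinearIndependent Γ(X, D) s by
    refine ⟨D, hxD, ?_⟩
    have := FlatOverBC.nonempty_iso_freeMod_of_basis F hD (Module.Basis.mk this hs.ge)
    rwa [hfr] at this
  rw [Fintype.linearIndependent_iff]
  intro c hc i
  refine TopCat.Presheaf.section_ext X.sheaf D (c i) 0 fun y hy => ?_
  rw [map_zero]
  obtain ⟨ξ, hξt, hξg, hξf, hξr⟩ := h (q y)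
  have hsp : ξ ⤳ y := hξg y hξt.symm
  have hξD : ξ ∈ D := hsp.mem_open D.isOpen hy
  apply stalkSpecializes_injective q hsp hξt
  refine (TopCat.Presheaf.germ_stalkSpecializes_apply X.presheaf hy hsp (c i)).trans (Eq.trans ?_ (map_zero _).symm)
  let R := X.presheaf.stalk ξ
  haveI := hξf
  have htop := FinLocFreeSections.span_germ_eq_top F hD s hs hξD
  haveI : Module.Finite R (F.presheaf.stalk ξ) := QuasiFlatLib.finite_stalk F ⟨inferInstance, hF⟩ ξ
  let f : (Fin (FinLocFreeSections.fibreRank F x) → R) →ₗ[R] F.presheaf.stalk ξ :=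
    Fintype.linearCombination R fun j => F.presheaf.germ D ξ hξD (s j)
  have hf : Function.Surjective f := by
    rw [← LinearMap.range_eq_top, Fintype.range_linearCombination]
    exact htop
  let eb : F.presheaf.stalk ξ ≃ₗ[R] (Fin (FinLocFreeSections.fibreRank F x) → R) :=
    (Module.finBasisOfFinrankEq R _ (hξr.trans hfr.symm)).equivFun
  have hinj : Function.Injective f := by
    have := OrzechProperty.injective_of_surjective_endomorphism (eb.toLinearMap ∘ₗ f)
      (eb.surjective.comp hf)
    exact fun a b h => this (congrArg eb h)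
  have h0 : f (fun j => X.presheaf.germ D ξ hξD (c j)) = f 0 := by
    rw [map_zero, Fintype.linearCombination_apply, ← map_zero (F.presheaf.germ D ξ hξD).hom, ← hc,
      map_sum]
    exact Finset.sum_congr rfl fun j _ => (AssPts.germ_smul' F ξ hξD _ _).symm
  exact congrFun (hinj h0) i

end Groth.Agent.FlatFunLib
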