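import Groth.Agent.FlatFunLib.EssFP
import Groth.Agent.FlatLocalDepth.FibreStalk
import Groth.Agent.SmoothReduced.Basic
import Groth.Agent.UnivInjFib.Slice
import Groth.Prelude.Def_FlatFun
import Mathlib

/-!
# Generic points of fibres of smooth morphisms with geometrically irreducible fibres
-/

set_option autoImplicit false

universe u

open CategoryTheory Limits AlgebraicGeometry TensorProduct

namespace Groth.Agent.FlatFunLib

variable {X T : Scheme.{u}} (q : X ⟶ T)

theorem exists_isGenericPtOfFibre [GeometricallyIrreducible q] (t : T) :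
    ∃ ξ : X, q ξ = t ∧ FlatFun.IsGenericPtOfFibre q ξ := by
  refine ⟨q.fiberι t (genericPoint (q.fiber t)), ?_, fun x' hx' => ?_⟩
  · have : q.fiberι t (genericPoint (q.fiber t)) ∈ Set.range (q.fiberι t) := ⟨_, rfl⟩
    rwa [Scheme.Hom.range_fiberι] at this
  · have ht : q (q.fiberι t (genericPoint (q.fiber t))) = t := by
      have : q.fiberι t (genericPoint (q.fiber t)) ∈ Set.range (q.fiberι t) := ⟨_, rfl⟩
      rwa [Scheme.Hom.range_fiberι] at this
    obtain ⟨w, rfl⟩ : x' ∈ Set.range (q.fiberι t) := by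
      rw [Scheme.Hom.range_fiberι]; exact hx'.trans ht
    exact (genericPoint_specializes w).map (q.fiberι t).continuous

/-- A germ at `y` vanishing at a generisation in the same fibre vanishes. -/
theorem stalkSpecializes_injective [Smooth q] [GeometricallyIrreducible q] {ξ y : X} (h : ξ ⤳ y)
    (he : q ξ = q y) : Function.Injective (X.presheaf.stalkSpecializes h) := by
  rw [injective_iff_map_eq_zero]
  intro a ha
  obtain ⟨_, ⟨V, hV, rfl⟩, hyV, -⟩ :=
    T.isBasis_affineOpens.exists_subset_of_mem_open (Set.mem_univ (q y)) isOpen_univ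
  obtain ⟨_, ⟨U, hU, rfl⟩, hyU, hUV⟩ :=
    X.isBasis_affineOpens.exists_subset_of_mem_open (show y ∈ q ⁻¹ᵁ V from hyV) (q ⁻¹ᵁ V).isOpen
  have hξU : ξ ∈ U := h.mem_open U.isOpen hyU
  let B := X.presheaf.stalk y
  let A := T.presheaf.stalk (q y)
  let C := Γ(X, U)
  letI : Algebra C B := (X.presheaf.germ U y hyU).hom.toAlgebra
  letI : Algebra C (X.presheaf.stalk ξ) := (X.presheaf.germ U ξ hξU).hom.toAlgebra
  haveI : IsLocalization.AtPrime B (hU.primeIdealOf ⟨y, hyU⟩).asIdeal := hU.isLocalization_stalk ⟨y, hyU⟩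
  haveI : IsLocalization.AtPrime (X.presheaf.stalk ξ) (hU.primeIdealOf ⟨ξ, hξU⟩).asIdeal :=
    hU.isLocalization_stalk ⟨ξ, hξU⟩
  have hcomm : ∀ c : C, X.presheaf.stalkSpecializes h (algebraMap C B c) =
      algebraMap C (X.presheaf.stalk ξ) c := fun c =>
    TopCat.Presheaf.germ_stalkSpecializes_apply X.presheaf hyU h c
  obtain ⟨⟨c, g⟩, hc⟩ := IsLocalization.surj (hU.primeIdealOf ⟨y, hyU⟩).asIdeal.primeCompl a
  simp only at hc
  have hc0 : algebraMap C (X.presheaf.stalk ξ) c = 0 := by
    rw [← hcomm, ← hc, map_mul, ha, zero_mul]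
  obtain ⟨⟨s, hs⟩, hsc⟩ :=
    (IsLocalization.map_eq_zero_iff (hU.primeIdealOf ⟨ξ, hξU⟩).asIdeal.primeCompl _ c).1 hc0
  simp only at hsc
  have hsu : IsUnit (X.presheaf.stalkSpecializes h (algebraMap C B s)) := by
    rw [hcomm]; exact IsLocalization.map_units (M := (hU.primeIdealOf ⟨ξ, hξU⟩).asIdeal.primeCompl) _ ⟨s, hs⟩
  -- structures over the local ring of the base
  letI : Algebra A B := (q.stalkMap y).hom.toAlgebra
  haveI : IsLocalHom (algebraMap A B) := inferInstanceAs (IsLocalHom (q.stalkMap y).hom)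
  haveI : Module.Flat A B := Flat.stalkMap q y
  have hess : FlatCA.EssFinitePresentation A B := by
    let R := Γ(T, V)
    letI : Algebra R C := (q.appLE V U hUV).hom.toAlgebra
    haveI : Algebra.FinitePresentation R C :=
      HasRingHomProperty.appLE @LocallyOfFinitePresentation q inferInstance ⟨V, hV⟩ ⟨U, hU⟩ hUV
    letI : Algebra R A := (T.presheaf.germ V (q y) hyV).hom.toAlgebra
    haveI : IsLocalization.AtPrime A (hV.primeIdealOf ⟨q y, hyV⟩).asIdeal :=
      hV.isLocalization_stalk ⟨q y, hyV⟩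
    letI : Algebra R B := ((algebraMap C B).comp (algebraMap R C)).toAlgebra
    haveI : IsScalarTower R C B := IsScalarTower.of_algebraMap_eq' rfl
    haveI : IsScalarTower R A B := IsScalarTower.of_algebraMap_eq fun r => by
      show X.presheaf.germ U y hyU (q.appLE V U hUV r) = q.stalkMap y (T.presheaf.germ V (q y) hyV r)
      rw [Scheme.Hom.germ_stalkMap_apply, Scheme.Hom.appLE, ← X.presheaf.germ_res_apply (homOfLE hUV) y hyU]
      rfl
    exact essFinitePresentation_of_isLocalization (hV.primeIdealOf ⟨q y, hyV⟩).asIdeal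
      (hU.primeIdealOf ⟨y, hyU⟩).asIdeal
      (congrArg PrimeSpectrum.asIdeal (IsAffineOpen.comap_primeIdealOf_appLE V hV U hU hUV hyU)) A B
  -- the fibre is integral at `y`
  let mB := (IsLocalRing.maximalIdeal A).map (algebraMap A B)
  have hprime : mB.IsPrime := by
    haveI : Smooth (q.fiberToSpecResidueField (q y)) := MorphismProperty.pullback_snd _ _ ‹Smooth q›
    haveI : IsReduced (q.fiber (q y)) := SmoothReduced.isReduced_of_smooth_scheme (q.fiberToSpecResidueField (q y))
    haveI : IsIntegral (q.fiber (q y)) := isIntegral_of_irreducibleSpace_of_isReduced _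
    obtain ⟨e⟩ := FlatLocalDepth.nonempty_asFiber_stalk_equiv q y
    haveI : IsDomain (B ⧸ mB) := e.toMulEquiv.isDomain ((q.fiber (q y)).presheaf.stalk (q.asFiber y))
    exact (Ideal.Quotient.isDomain_iff_prime mB).1 inferInstance
  have hs' : algebraMap C B s ∉ mB := by
    intro hmem
    have hle : mB ≤ (IsLocalRing.maximalIdeal (X.presheaf.stalk ξ)).comap (X.presheaf.stalkSpecializes h).hom := by
      rw [Ideal.map_le_iff_le_comap]
      intro m hm
      show X.presheaf.stalkSpecializes h (q.stalkMap y m) ∈ IsLocalRing.maximalIdeal _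
      rw [← Scheme.Hom.stalkSpecializes_stalkMap_apply]
      refine map_nonunit (q.stalkMap ξ).hom _ ?_
      let e := T.presheaf.stalkCongr (.of_eq he.symm)
      haveI : IsLocalHom e.hom.hom := isLocalHom_of_isIso _
      exact map_nonunit e.hom.hom m hm
    exact (IsLocalRing.mem_maximalIdeal _).1 (hle hmem) hsu
  have hinj : Function.Injective fun b : B => algebraMap C B s * b := by
    have hu := UnivInjFib.univInj_smul (R := A) (S := B) hess (N := B) (algebraMap C B s) (fun n hn => by
      rw [Ideal.smul_top_eq_map] at hn ⊢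
      exact (hprime.mem_or_mem (show algebraMap C B s * n ∈ mB from hn)).resolve_left hs') A
    intro v w hvw
    have := hu (a₁ := (1 : A) ⊗ₜ[A] v) (a₂ := (1 : A) ⊗ₜ[A] w) (by
      show (1 : A) ⊗ₜ[A] (algebraMap C B s * v) = (1 : A) ⊗ₜ[A] (algebraMap C B s * w)
      rw [show algebraMap C B s * v = algebraMap C B s * w from hvw])
    simpa using congrArg (TensorProduct.lid A B) this
  have hcB : algebraMap C B c = 0 := hinj (by
    show algebraMap C B s * algebraMap C B c = algebraMap C B s * 0
    rw [← map_mul, hsc, map_zero, mul_zero])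
  exact (IsLocalization.map_units B g).mul_left_eq_zero.1 (hc.trans hcB)

end Groth.Agent.FlatFunLib
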