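import Groth.Agent.FlatFunLib.Stalk
import Groth.Prelude.Def_FlatFun
import Groth.Prelude.Def_QuotSh
import Mathlib.AlgebraicGeometry.Sites.Fpqc

/-!
# Sheaf and limit conditions for `FlatFun.genPSp`
-/

set_option autoImplicit false
set_option backward.isDefEq.respectTransparency false

universe u

open CategoryTheory Limits AlgebraicGeometry Opposite

namespace Groth.Agent.FlatFunLib

variable {X S : Scheme.{u}} (f : X ⟶ S)

/-- The map `X_{T'} ⟶ X_T`. -/
noncomputable def bcMap {T' T : Over S} (g : T' ⟶ T) : pullback f T'.hom ⟶ pullback f T.hom :=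
  pullback.lift (pullback.fst _ _) (pullback.snd _ _ ≫ g.left) (by rw [Category.assoc, Over.w g, pullback.condition])

@[reassoc] theorem bcMap_fst {T' T : Over S} (g : T' ⟶ T) :
    bcMap f g ≫ pullback.fst f T.hom = pullback.fst f T'.hom := pullback.lift_fst _ _ _

@[reassoc] theorem bcMap_snd {T' T : Over S} (g : T' ⟶ T) :
    bcMap f g ≫ pullback.snd f T.hom = pullback.snd f T'.hom ≫ g.left := pullback.lift_snd _ _ _

theorem isPullback_bcMap {T' T : Over S} (g : T' ⟶ T) :
    IsPullback (bcMap f g) (pullback.snd f T'.hom) (pullback.snd f T.hom) g.left := by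
  refine IsPullback.of_right ?_ (bcMap_snd f g) (IsPullback.of_hasPullback f T.hom)
  rw [bcMap_fst, Over.w g]
  exact IsPullback.of_hasPullback f T'.hom

variable {F G : X.Modules} (u : F ⟶ G)

/-- The base change of a map of modules. -/
noncomputable abbrev bcHom (T : Over S) :
    (Scheme.Modules.pullback (pullback.fst f T.hom)).obj F ⟶ (Scheme.Modules.pullback (pullback.fst f T.hom)).obj G :=
  (Scheme.Modules.pullback (pullback.fst f T.hom)).map u

/-- Base changes of base changes. -/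
theorem bcHom_pullback {T' T : Over S} (g : T' ⟶ T) :
    ∃ (e₁ : (Scheme.Modules.pullback (pullback.fst f T'.hom)).obj F ≅ (Scheme.Modules.pullback (bcMap f g)).obj ((Scheme.Modules.pullback (pullback.fst f T.hom)).obj F))
      (e₂ : (Scheme.Modules.pullback (pullback.fst f T'.hom)).obj G ≅ (Scheme.Modules.pullback (bcMap f g)).obj ((Scheme.Modules.pullback (pullback.fst f T.hom)).obj G)),
      bcHom f u T' = e₁.hom ≫ (Scheme.Modules.pullback (bcMap f g)).map (bcHom f u T) ≫ e₂.inv := by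
  let e : Scheme.Modules.pullback (pullback.fst f T'.hom) ≅
      Scheme.Modules.pullback (pullback.fst f T.hom) ⋙ Scheme.Modules.pullback (bcMap f g) :=
    Scheme.Modules.pullbackCongr (bcMap_fst f g).symm ≪≫ (Scheme.Modules.pullbackComp _ _).symm
  refine ⟨e.app F, e.app G, ?_⟩
  rw [← Category.assoc, Iso.eq_comp_inv]
  exact e.hom.naturality u

variable {T' T : Over S} (g : T' ⟶ T)

include g in
theorem epi_bcHom_of_hom (h : Epi (bcHom f u T)) : Epi (bcHom f u T') := by
  obtain ⟨e₁, e₂, he⟩ := bcHom_pullback f u g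
  rw [he]
  have : (Scheme.Modules.pullback (bcMap f g)).IsLeftAdjoint :=
    (Scheme.Modules.pullbackPushforwardAdjunction _).isLeftAdjoint
  infer_instance

include g in
theorem isIso_bcHom_of_hom (h : IsIso (bcHom f u T)) : IsIso (bcHom f u T') := by
  obtain ⟨e₁, e₂, he⟩ := bcHom_pullback f u g
  rw [he]
  infer_instance

include g in
theorem bcHom_eq_zero_of_hom (h : bcHom f u T = 0) : bcHom f u T' = 0 := by
  obtain ⟨e₁, e₂, he⟩ := bcHom_pullback f u g
  rw [he, h]
  have : (Scheme.Modules.pullback (bcMap f g)).IsLeftAdjoint :=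
    (Scheme.Modules.pullbackPushforwardAdjunction _).isLeftAdjoint
  rw [Functor.map_zero, zero_comp, comp_zero]

theorem bcHom_iff :
    (Epi ((Scheme.Modules.pullback (bcMap f g)).map (bcHom f u T)) ↔ Epi (bcHom f u T')) ∧
    (Mono ((Scheme.Modules.pullback (bcMap f g)).map (bcHom f u T)) ↔ Mono (bcHom f u T')) ∧
    (IsIso ((Scheme.Modules.pullback (bcMap f g)).map (bcHom f u T)) ↔ IsIso (bcHom f u T')) ∧
    ((Scheme.Modules.pullback (bcMap f g)).map (bcHom f u T) = 0 ↔ bcHom f u T' = 0) := by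
  obtain ⟨e₁, e₂, he⟩ := bcHom_pullback f u g
  have he' : (Scheme.Modules.pullback (bcMap f g)).map (bcHom f u T) = e₁.inv ≫ bcHom f u T' ≫ e₂.hom := by
    rw [he]; simp
  refine ⟨⟨fun h => ?_, fun h => ?_⟩, ⟨fun h => ?_, fun h => ?_⟩, ⟨fun h => ?_, fun h => ?_⟩, ⟨fun h => ?_, fun h => ?_⟩⟩
  all_goals first
    | (rw [he, h, zero_comp, comp_zero]; done)
    | (rw [he', h, zero_comp, comp_zero]; done)
    | (rw [he]; infer_instance)
    | (rw [he']; infer_instance)

variable {P : Over S → Prop}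

/-- Covering sieves for the fpqc topology contain flat jointly surjective families. -/
theorem exists_flat_family {T : Over S} {R : Sieve T}
    (hR : R ∈ QuotSh.J Scheme.fpqcPrecoverage S T) :
    ∃ (ι : Type (u + 1)) (U : ι → Over S) (v : ∀ i, U i ⟶ T), (∀ i, Flat (v i).left) ∧
      (∀ t : ↥T.left, ∃ i, t ∈ Set.range (v i).left) ∧ ∀ i, R.arrows (v i) := by
  rw [GrothendieckTopology.mem_over_iff, Precoverage.mem_toGrothendieck_iff_of_isStableUnderComposition] at hR
  obtain ⟨R₀, hR₀, hle⟩ := hR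
  rw [Precoverage.mem_iff_exists_zeroHypercover] at hR₀
  obtain ⟨𝒰, rfl⟩ := hR₀
  obtain ⟨h1, h2⟩ := (Scheme.ofArrows_mem_precoverage_iff _).mp (𝒰.mem₀.2)
  exact ⟨𝒰.I₀, fun a => Over.mk (𝒰.f a ≫ T.hom), fun a => Over.homMk (𝒰.f a) rfl, h2, h1,
    fun a => (Sieve.overEquiv_iff R _).1 (hle _ _ (Presieve.ofArrows.mk a))⟩

/-- A stable condition which is local for flat jointly surjective families gives an fpqc sheaf. -/
theorem isSheaf_genPSp (hst : ∀ ⦃T T₀ : Over S⦄ (_ : T ⟶ T₀), P T₀ → P T)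
    (hloc : ∀ {T : Over S} {ι : Type (u + 1)} {U : ι → Over S} (v : ∀ i, U i ⟶ T), (∀ i, Flat (v i).left) →
      (∀ t : ↥T.left, ∃ i, t ∈ Set.range (v i).left) → (∀ i, P (U i)) → P T) :
    Presheaf.IsSheaf (QuotSh.J Scheme.fpqcPrecoverage S) (FlatFun.genPSp S P) := by
  rw [isSheaf_iff_isSheaf_of_type]
  intro T R hR x _
  obtain ⟨ι, U, v, hv, hs, hRv⟩ := exists_flat_family hR
  have hP : P T := hloc v hv hs fun i => (FlatFun.genPSp_nonempty_iff_of_stable P hst _).1 ⟨x (v i) (hRv i)⟩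
  obtain ⟨t⟩ := FlatFun.genPSp_nonempty_of P hP
  exact ⟨t, fun _ _ _ => Subsingleton.elim _ _, fun _ _ => Subsingleton.elim _ _⟩

/-- Base changes of jointly surjective flat families. -/
theorem bcMap_family {ι : Type*} {U : ι → Over S} (v : ∀ i, U i ⟶ T) [∀ i, Flat (v i).left]
    (hs : ∀ t : ↥T.left, ∃ i, t ∈ Set.range (v i).left) :
    (∀ i, Flat (bcMap f (v i))) ∧ ∀ x : ↥(pullback f T.hom), ∃ i x', bcMap f (v i) x' = x := by
  refine ⟨fun i => MorphismProperty.of_isPullback (isPullback_bcMap f (v i)).flip inferInstance, fun x => ?_⟩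
  obtain ⟨i, y, hy⟩ := hs (pullback.snd f T.hom x)
  obtain ⟨z, hz, -⟩ := Scheme.exists_preimage_of_isPullback (isPullback_bcMap f (v i)) x y hy.symm
  exact ⟨i, z, hz⟩

/-- The conditions on `u_T` are local for flat jointly surjective families. -/
theorem bcHom_local {ι : Type*} {U : ι → Over S} (v : ∀ i, U i ⟶ T) (hv : ∀ i, Flat (v i).left)
    (hs : ∀ t : ↥T.left, ∃ i, t ∈ Set.range (v i).left) :
    ((∀ i, Epi (bcHom f u (U i))) → Epi (bcHom f u T)) ∧
    ((∀ i, Mono (bcHom f u (U i))) → Mono (bcHom f u T)) ∧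
    ((∀ i, IsIso (bcHom f u (U i))) → IsIso (bcHom f u T)) ∧
    ((∀ i, bcHom f u (U i) = 0) → bcHom f u T = 0) := by
  haveI := hv
  obtain ⟨h₁, h₂⟩ := bcMap_family f v hs
  haveI := h₁
  obtain ⟨he, hm, hi, hz⟩ := of_jointly_surjective (fun i => bcMap f (v i)) h₂ (bcHom f u T)
  exact ⟨fun h => he fun i => (bcHom_iff f u (v i)).1.2 (h i), fun h => hm fun i => (bcHom_iff f u (v i)).2.1.2 (h i),
    fun h => hi fun i => (bcHom_iff f u (v i)).2.2.1.2 (h i), fun h => hz fun i => (bcHom_iff f u (v i)).2.2.2.2 (h i)⟩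

include g in
theorem mono_bcHom_of_flat [Flat g.left] (h : Mono (bcHom f u T)) : Mono (bcHom f u T') := by
  haveI : Flat (bcMap f g) := MorphismProperty.of_isPullback (isPullback_bcMap f g).flip inferInstance
  exact (bcHom_iff f u g).2.1.1 (mono_pullback (bcMap f g) (bcHom f u T))

end Groth.Agent.FlatFunLib
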