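import Groth.Agent.FlatFunLib.LimitHom
import Groth.Agent.FlatFunLib.GenSheaf
import Groth.Agent.ModStA.Fib
import Groth.Agent.QCohBase.FiniteTypePullback
import Mathlib.CategoryTheory.Limits.Types.Filtered
import Groth.Prelude.Def_AlgSpRep

/-!
# Limit preserving conditions on base changes of maps of modules
-/

set_option autoImplicit false
set_option backward.isDefEq.respectTransparency false

universe u

open CategoryTheory Limits AlgebraicGeometry Opposite

namespace Groth.Agent.FlatFunLib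

variable {X S : Scheme.{u}} (f : X ⟶ S)

/-- A stable condition which descends to a stage gives a limit preserving presheaf. -/
theorem isLimitPreserving_genPSp {P : Over S → Prop} (hst : ∀ ⦃T T₀ : Over S⦄ (_ : T ⟶ T₀), P T₀ → P T)
    (hlim : ∀ ⦃I : Type u⦄ [SmallCategory I] [IsCofiltered I] (D : I ⥤ Over S) (c : Cone D),
      IsLimit ((Over.forget S).mapCone c) → (∀ i, IsAffine (D.obj i).left) → IsAffine c.pt.left →
      P c.pt → ∃ i, P (D.obj i)) :
    AlgSp.IsLimitPreserving (FlatFun.genPSp S P) := by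
  intro I _ _ D c hc hD hT
  refine ⟨Types.FilteredColimit.isColimitOf' _ _ (fun ξ => ?_) (fun i ξ₁ ξ₂ _ => ⟨i, 𝟙 i, ?_⟩)⟩
  · obtain ⟨i, hi⟩ := hlim D c hc hD hT ((FlatFun.genPSp_nonempty_iff_of_stable P hst _).1 ⟨ξ⟩)
    obtain ⟨x⟩ := FlatFun.genPSp_nonempty_of P hi
    exact ⟨op i, x, (FlatFun.genPSp_subsingleton S P (op c.pt)).elim _ _⟩
  · exact (FlatFun.genPSp_subsingleton S P (op (D.obj i.unop))).elim _ _

@[simp] theorem bcMap_id (T : Over S) : bcMap f (𝟙 T) = 𝟙 _ := by
  apply pullback.hom_ext <;> simp [bcMap_fst, bcMap_snd]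

theorem bcMap_comp {T T' T'' : Over S} (g : T ⟶ T') (g' : T' ⟶ T'') :
    bcMap f (g ≫ g') = bcMap f g ≫ bcMap f g' := by
  apply pullback.hom_ext <;> simp [bcMap_fst, bcMap_snd, bcMap_snd_assoc]

variable {I : Type u} [SmallCategory I] (D : I ⥤ Over S) (c : Cone D)

/-- The base changed system. -/
noncomputable def xSys : I ⥤ Scheme.{u} where
  obj j := pullback f (D.obj j).hom
  map g := bcMap f (D.map g)
  map_id j := by rw [D.map_id, bcMap_id]
  map_comp g g' := by rw [D.map_comp, bcMap_comp]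

/-- The base changed cone. -/
noncomputable def xCone : Cone (xSys f D) where
  pt := pullback f c.pt.hom
  π :=
    { app := fun j => bcMap f (c.π.app j)
      naturality := fun j k g => by
        simp only [Functor.const_obj_map, Functor.const_obj_obj, Category.id_comp]
        exact (congrArg (bcMap f) (c.w g)).symm.trans (bcMap_comp f _ _) }

/-- The base change of a limit is a limit. -/
noncomputable def isLimitXCone [IsCofiltered I] (hc : IsLimit ((Over.forget S).mapCone c)) :
    IsLimit (xCone f D c) :=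
  have : IsConnected I := IsCofiltered.isConnected I
  let sndNat : xSys f D ⟶ D ⋙ Over.forget S :=
    { app := fun j => pullback.snd f (D.obj j).hom, naturality := fun j k g => bcMap_snd f (D.map g) }
  isLimitOfIsPullbackOfIsConnected sndNat (xCone f D c) ((Over.forget S).mapCone c)
    ({ hom := pullback.snd f c.pt.hom, w := fun j => (bcMap_snd f (c.π.app j)).symm } :
      (Cone.postcompose sndNat).obj (xCone f D c) ⟶ (Over.forget S).mapCone c)
    (fun j => isPullback_bcMap f (c.π.app j)) hc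

theorem isAffineHom_xSys (hD : ∀ i, IsAffine (D.obj i).left) (i j : I) (g : i ⟶ j) :
    IsAffineHom ((xSys f D).map g) := by
  have := hD i; have := hD j
  exact MorphismProperty.of_isPullback (isPullback_bcMap f (D.map g)).flip inferInstance

variable [IsCofiltered I] [QuasiCompact f] {F G : X.Modules} [Coh.IsQCoh F] [Coh.IsQCoh G] (u : F ⟶ G)

omit [Coh.IsQCoh F] [Coh.IsQCoh G] in
theorem exists_cover_xSys (hD : ∀ i, IsAffine (D.obj i).left) (i : I) :
    ∃ (ι : Type u) (_ : Finite ι) (V : ι → ((xSys f D).obj i).Opens), (∀ k, IsAffineOpen (V k)) ∧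
      ∀ x, ∃ k, x ∈ V k := by
  have := hD i
  have : CompactSpace ↥((xSys f D).obj i) := QuasiCompact.compactSpace_of_compactSpace (pullback.snd f (D.obj i).hom)
  choose V hV hxV _ using fun x : (xSys f D).obj i =>
    exists_isAffineOpen_mem_and_subset (x := x) (U := ⊤) trivial
  obtain ⟨t, ht⟩ := isCompact_univ.elim_finite_subcover (fun x => ((V x) : Set ((xSys f D).obj i)))
    (fun x => (V x).2) (fun x _ => Set.mem_iUnion.2 ⟨x, hxV x⟩)
  refine ⟨t, inferInstance, fun k => V k.1, fun k => hV k.1, fun x => ?_⟩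
  obtain ⟨k, hk, hx⟩ := Set.mem_iUnion₂.1 (ht (Set.mem_univ x))
  exact ⟨⟨k, hk⟩, hx⟩

variable (hc : IsLimit ((Over.forget S).mapCone c)) (hD : ∀ i, IsAffine (D.obj i).left)

include hc hD in
theorem exists_stage_bc_zero (hF : CohB1.IsFT F) (h : bcHom f u c.pt = 0) : ∃ i, bcHom f u (D.obj i) = 0 := by
  obtain ⟨i⟩ := IsCofiltered.nonempty (C := I)
  haveI := QCohPull.isQuasicoherent_pullback (pullback.fst f (D.obj i).hom) F
  haveI := QCohPull.isQuasicoherent_pullback (pullback.fst f (D.obj i).hom) G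
  have := isAffineHom_xSys f D hD
  obtain ⟨ι, _, V, hV, hcov⟩ := exists_cover_xSys f D hD i
  obtain ⟨j, φ, hj⟩ := exists_stage_zero (xSys f D) (xCone f D c) (isLimitXCone f D c hc) (i := i)
    (bcHom f u (D.obj i)) hV hcov (QCohBase.isFT_pullback _ hF) ((bcHom_iff f u (c.π.app i)).2.2.2.2 h)
  exact ⟨j, (bcHom_iff f u (D.map φ)).2.2.2.1 hj⟩

include hc hD in
theorem exists_stage_bc_epi (hG : CohB1.IsFT G) (h : Epi (bcHom f u c.pt)) : ∃ i, Epi (bcHom f u (D.obj i)) := by
  obtain ⟨i⟩ := IsCofiltered.nonempty (C := I)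
  haveI := QCohPull.isQuasicoherent_pullback (pullback.fst f (D.obj i).hom) F
  haveI := QCohPull.isQuasicoherent_pullback (pullback.fst f (D.obj i).hom) G
  have := isAffineHom_xSys f D hD
  obtain ⟨ι, _, V, hV, hcov⟩ := exists_cover_xSys f D hD i
  obtain ⟨j, φ, hj⟩ := exists_stage_epi (xSys f D) (xCone f D c) (isLimitXCone f D c hc) (i := i)
    (bcHom f u (D.obj i)) hV hcov (QCohBase.isFT_pullback _ hG) ((bcHom_iff f u (c.π.app i)).1.2 h)
  exact ⟨j, (bcHom_iff f u (D.map φ)).1.1 hj⟩

include hc hD in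
theorem exists_stage_bc_isIso (hF : CohB1.IsFT F) (hG : CohB1.IsFP G) (h : IsIso (bcHom f u c.pt)) :
    ∃ i, IsIso (bcHom f u (D.obj i)) := by
  obtain ⟨i⟩ := IsCofiltered.nonempty (C := I)
  haveI := QCohPull.isQuasicoherent_pullback (pullback.fst f (D.obj i).hom) F
  haveI := QCohPull.isQuasicoherent_pullback (pullback.fst f (D.obj i).hom) G
  have := isAffineHom_xSys f D hD
  obtain ⟨ι, _, V, hV, hcov⟩ := exists_cover_xSys f D hD i
  obtain ⟨j, φ, hj⟩ := exists_stage_isIso (xSys f D) (xCone f D c) (isLimitXCone f D c hc) (i := i)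
    (bcHom f u (D.obj i)) hV hcov (QCohBase.isFT_pullback _ hF) (ModStA.isFP_pullback _ hG)
    ((bcHom_iff f u (c.π.app i)).2.2.1.2 h)
  exact ⟨j, (bcHom_iff f u (D.map φ)).2.2.1.1 hj⟩

end Groth.Agent.FlatFunLib
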