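import Groth.Agent.FlatFunLib.GenFree
import Groth.Agent.FlatFunLib.GenSheaf
import Groth.Agent.FlatOverBC.Fibre
import Groth.Agent.AlgSpDesc.ResTrdeg
import Groth.Agent.FibreDimChart.Smooth

/-!
# Transcendence degree at generic points of fibres, flatness there
-/

set_option autoImplicit false
set_option backward.isDefEq.respectTransparency.types false

noncomputable section

universe u

open CategoryTheory Limits AlgebraicGeometry TensorProduct

namespace Groth.Agent.FlatFunLib

variable {X T : Scheme.{u}} (q : X ⟶ T)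

theorem isIntegral_fiber [Smooth q] [GeometricallyIrreducible q] (t : T) : IsIntegral (q.fiber t) := by
  haveI : Smooth (q.fiberToSpecResidueField t) := MorphismProperty.pullback_snd _ _ ‹Smooth q›
  haveI : IsReduced (q.fiber t) := SmoothReduced.isReduced_of_smooth_scheme (q.fiberToSpecResidueField t)
  exact isIntegral_of_irreducibleSpace_of_isReduced _

theorem isMax_asFiber {x : X} (hx : FlatFun.IsGenericPtOfFibre q x) : IsMax (q.asFiber x) := by
  intro b (hb : b ⤳ q.asFiber x)
  show q.asFiber x ⤳ b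
  have hb' : q (q.fiberι (q x) b) = q x := by
    have : q.fiberι (q x) b ∈ Set.range (q.fiberι (q x)) := ⟨b, rfl⟩
    rwa [Scheme.Hom.range_fiberι] at this
  refine (q.fiberι (q x)).isEmbedding.isInducing.specializes_iff.1 ?_
  rw [q.fiberι_asFiber]
  exact hx _ hb'

/-- The generic point of a fibre is characterised by its transcendence degree. -/
theorem not_resTrdeg_lt_iff [Smooth q] [GeometricallyIrreducible q] (d : ℕ) [SmoothOfRelativeDimension d q]
    (x : X) : ¬ Dual3.resTrdeg q x < d ↔ FlatFun.IsGenericPtOfFibre q x := by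
  have h := AlgSpDesc.fibreDimAt_eq_stalk_add_resTrdeg q x
  rw [FibreDimChart.fibreDimAt_of_smoothOfRelativeDimension d q x, ringKrullDim_stalk_eq_coheight,
    ← WithBot.coe_add] at h
  replace h : (d : ℕ∞) = Order.coheight (q.asFiber x) + Cardinal.toENat (Dual3.resTrdeg q x) :=
    WithBot.coe_injective h
  constructor
  · intro hlt
    have hle : (d : ℕ∞) ≤ Cardinal.toENat (Dual3.resTrdeg q x) := by
      rw [← Cardinal.toENat_lt_natCast] at hlt
      exact not_lt.1 hlt
    have h0 : Order.coheight (q.asFiber x) = 0 := by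
      have hfin : Cardinal.toENat (Dual3.resTrdeg q x) ≠ ⊤ := fun e => by simp [e] at h
      have h2 : Order.coheight (q.asFiber x) + Cardinal.toENat (Dual3.resTrdeg q x) ≤
          0 + Cardinal.toENat (Dual3.resTrdeg q x) := by rw [zero_add, ← h]; exact hle
      exact nonpos_iff_eq_zero.1 ((ENat.add_le_add_iff_right hfin).1 h2)
    rw [Order.coheight_eq_zero] at h0
    obtain ⟨ξ, hξ, hgen⟩ := exists_isGenericPtOfFibre q (q x)
    intro x' hx'
    obtain ⟨w, rfl⟩ : ξ ∈ Set.range (q.fiberι (q x)) := by rw [Scheme.Hom.range_fiberι]; exact hξ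
    have hw : w ⤳ q.asFiber x := by
      refine (q.fiberι (q x)).isEmbedding.isInducing.specializes_iff.1 ?_
      rw [q.fiberι_asFiber]
      exact hgen x hξ.symm
    have : q.fiberι (q x) w = x := by
      rw [(Specializes.antisymm hw (h0 hw)).eq, q.fiberι_asFiber]
    rw [this] at hgen
    exact hgen x' hx'
  · intro hx hlt
    rw [Order.coheight_eq_zero.2 (isMax_asFiber q hx), zero_add] at h
    rw [← Cardinal.toENat_lt_natCast, ← h] at hlt
    exact lt_irrefl _ hlt

/-- Flatness over the base at a generic point of a fibre gives a free stalk. -/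
theorem flat_stalk_of_isGenericPtOfFibre [Smooth q] [GeometricallyIrreducible q] (F : X.Modules)
    [F.IsQuasicoherent] (hF : CohB1.IsFP F) {ξ : X} (hξ : FlatFun.IsGenericPtOfFibre q ξ)
    (hflat : FlatMod.IsFlatOverAt q F ξ) :
    Module.Flat (X.presheaf.stalk ξ) (F.presheaf.stalk ξ) := by
  haveI := isIntegral_fiber q (q ξ)
  obtain ⟨e⟩ := FlatLocalDepth.nonempty_asFiber_stalk_equiv q ξ
  let D := (q.fiber (q ξ)).presheaf.stalk (q.asFiber ξ)
  haveI : Ring.KrullDimLE 0 D := by
    rw [Ring.krullDimLE_iff, ringKrullDim_stalk_eq_coheight, Order.coheight_eq_zero.2 (isMax_asFiber q hξ)]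
    exact le_rfl
  have hf : IsField (X.presheaf.stalk ξ ⧸
      (IsLocalRing.maximalIdeal (T.presheaf.stalk (q ξ))).map (q.stalkMap ξ).hom) :=
    e.toMulEquiv.isField (Ring.KrullDimLE.isField_of_isDomain (R := D))
  have h1 : FlatMod.IsFlatOverAt (𝟙 X ≫ q) F ξ := by
    rw [Category.id_comp]; exact hflat
  have hflat' : @Module.Flat (X.presheaf.stalk ξ) (F.presheaf.stalk ξ) _ _
      (FlatMod.moduleStalkOver (𝟙 X) F ξ) :=
    FlatOverBC.isFlatOverAt_of_fibre (𝟙 X) q F hF ξ h1 (by
      letI := FlatMod.moduleStalkOver (𝟙 X) F ξ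
      have hf' : IsField (X.presheaf.stalk ((𝟙 X : X ⟶ X) ξ) ⧸
          (IsLocalRing.maximalIdeal (T.presheaf.stalk (q ((𝟙 X : X ⟶ X) ξ)))).map
            (q.stalkMap ((𝟙 X : X ⟶ X) ξ)).hom) := hf
      letI := hf'.toField
      exact Module.Flat.of_free)
  convert hflat' using 1
  refine Module.ext' _ _ fun r m => ?_
  show r • m = ((Scheme.Hom.stalkMap (𝟙 X) ξ).hom r) • m
  rw [Scheme.Hom.stalkMap_id]; rfl

theorem isFlatOverAt_of_isFreeOfRankNear [Flat q] (F : X.Modules) [F.IsQuasicoherent] (p : ℕ) (ξ : X)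
    (h : FlatFun.IsFreeOfRankNear F p ξ) : FlatMod.IsFlatOverAt q F ξ := by
  obtain ⟨b⟩ := nonempty_basis_stalk F p ξ h
  letI := FlatMod.moduleStalkOver q F ξ
  letI : Algebra (T.presheaf.stalk (q ξ)) (X.presheaf.stalk ξ) := (q.stalkMap ξ).hom.toAlgebra
  haveI : IsScalarTower (T.presheaf.stalk (q ξ)) (X.presheaf.stalk ξ) (F.presheaf.stalk ξ) :=
    .of_algebraMap_smul fun _ _ => rfl
  haveI : Module.Flat (T.presheaf.stalk (q ξ)) (X.presheaf.stalk ξ) := Flat.stalkMap q ξ
  haveI : Module.Free (X.presheaf.stalk ξ) (F.presheaf.stalk ξ) := Module.Free.of_basis b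
  exact Module.Flat.trans (T.presheaf.stalk (q ξ)) (X.presheaf.stalk ξ) (F.presheaf.stalk ξ)

end Groth.Agent.FlatFunLib
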