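import Groth.Agent.FlatFunLib.Affine
import Groth.Agent.LimSch.Sections
import Groth.Agent.LimSch.DescendsCores
import Groth.Agent.FinLocFreeSections.FP
import Groth.Agent.QCohPull.Affine

/-!
# Maps of quasi-coherent modules on limits of schemes
-/

set_option autoImplicit false
set_option backward.isDefEq.respectTransparency false

universe u

open CategoryTheory Limits AlgebraicGeometry Opposite TensorProduct

namespace Groth.Agent.FlatFunLib

open LimSch EtSmColim

variable {I : Type u} [SmallCategory I] [IsCofiltered I] (D : I ⥤ Scheme.{u}) (c : Cone D) (hc : IsLimit c)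
  [∀ (i j : I) (f : i ⟶ j), IsAffineHom (D.map f)] {i : I} (W : (D.obj i).Opens) (hW : IsAffineOpen W)

/-- The sections over the preimages at the stages. -/
abbrev SecSys (l : Over i) : Type u := Γ(D.obj l.left, D.map l.hom ⁻¹ᵁ W)

noncomputable instance (l : Over i) : Algebra Γ(D.obj i, W) (SecSys D W l) :=
  ((D.map l.hom).app W).hom.toAlgebra

noncomputable instance algLim : Algebra Γ(D.obj i, W) Γ(c.pt, c.π.app i ⁻¹ᵁ W) :=
  ((c.π.app i).app W).hom.toAlgebra

theorem le_preimage {l m : Over i} (t : m ⟶ l) :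
    D.map m.hom ⁻¹ᵁ W ≤ D.map t.left ⁻¹ᵁ (D.map l.hom ⁻¹ᵁ W) := by
  rw [← Scheme.Hom.comp_preimage, ← D.map_comp, Over.w t]

/-- The maps to the limit. -/
noncomputable def secHom (l : Over i) : SecSys D W l →ₐ[Γ(D.obj i, W)] Γ(c.pt, c.π.app i ⁻¹ᵁ W) where
  toRingHom := ((c.π.app l.left).appLE (D.map l.hom ⁻¹ᵁ W) (c.π.app i ⁻¹ᵁ W) (π_preimage_eq l.hom W).ge).hom
  commutes' r := by
    change ((D.map l.hom).app W ≫ (c.π.app l.left).appLE _ _ _) r = (c.π.app i).app W r
    rw [Scheme.Hom.app_eq_appLE, Scheme.Hom.app_eq_appLE, Scheme.Hom.appLE_comp_appLE]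
    exact congrArg (fun e : Γ(D.obj i, W) ⟶ Γ(c.pt, c.π.app i ⁻¹ᵁ W) => e r) (by congr 1; exact c.w l.hom)

/-- The transition maps, as algebra maps. -/
noncomputable def secStep {l m : Over i} (t : m ⟶ l) :
    Step (G := SecSys D W) (secHom D c W) l m where
  hom :=
    { toRingHom := ((D.map t.left).appLE (D.map l.hom ⁻¹ᵁ W) (D.map m.hom ⁻¹ᵁ W) (le_preimage D W t)).hom
      commutes' := fun r => by
        change ((D.map l.hom).app W ≫ (D.map t.left).appLE _ _ _) r = (D.map m.hom).app W r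
        rw [Scheme.Hom.app_eq_appLE, Scheme.Hom.app_eq_appLE, Scheme.Hom.appLE_comp_appLE]
        exact congrArg (fun e : Γ(D.obj i, W) ⟶ Γ(D.obj m.left, D.map m.hom ⁻¹ᵁ W) => e r)
          (by congr 1; rw [← D.map_comp, Over.w t]) }
  comm := AlgHom.ext fun x => by
    change ((D.map t.left).appLE _ _ _ ≫ (c.π.app m.left).appLE _ _ _) x = (c.π.app l.left).appLE _ _ _ x
    rw [Scheme.Hom.appLE_comp_appLE]
    exact congrArg (fun e : Γ(D.obj l.left, D.map l.hom ⁻¹ᵁ W) ⟶ Γ(c.pt, c.π.app i ⁻¹ᵁ W) => e x)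
      (by congr 1; exact c.w t.left)

theorem directed_sec : Directed (G := SecSys D W) (secHom D c W) := fun l m => by
  obtain ⟨k, a, b, -⟩ := IsCofilteredOrEmpty.cone_objs l m
  exact ⟨k, ⟨secStep D c W a⟩, ⟨secStep D c W b⟩⟩

include hc hW in
theorem surjective_sec (a : Γ(c.pt, c.π.app i ⁻¹ᵁ W)) :
    ∃ (l : Over i) (x : SecSys D W l), secHom D c W l x = a := by
  have : IsAffine W.toScheme := hW
  obtain ⟨j, φ, t, ht⟩ := exists_appLE_eq hc (i := i) (U := W) a
  exact ⟨Over.mk φ, t, ht⟩

include hc hW in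
theorem kill_sec (l : Over i) (x : SecSys D W l) (hx : secHom D c W l x = 0) :
    ∃ (m : Over i) (a : Step (G := SecSys D W) (secHom D c W) l m), a.hom x = 0 := by
  have hU : IsAffineOpen (D.map l.hom ⁻¹ᵁ W) := hW.preimage _
  obtain ⟨j, v, hv⟩ := exists_app_eq_zero hc (i := l.left) (U := D.map l.hom ⁻¹ᵁ W) hU.isCompact x
    (app_eq_zero_of_appLE (c.π.app l.left) (π_preimage_eq l.hom W).symm x hx)
  let m : Over i := Over.mk (v ≫ l.hom)
  let t : m ⟶ l := Over.homMk v rfl
  exact ⟨m, secStep D c W t, appLE_eq_zero (D.map v) (le_preimage D W t) x hv⟩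

include c hc in
theorem isAffineHom_π (j : I) : IsAffineHom (c.π.app j) :=
  have : ∀ {i j} (f : i ⟶ j), IsAffineHom (D.map f) := fun f => inferInstance
  isAffineHom_π_app D c hc j

variable {M N : (D.obj i).Modules} (u : M ⟶ N) [M.IsQuasicoherent] [N.IsQuasicoherent]
  {ι : Type u} [Finite ι] {V : ι → (D.obj i).Opens} (hV : ∀ k, IsAffineOpen (V k))
  (hcov : ∀ x : D.obj i, ∃ k, x ∈ V k)

include hcov in
omit [Finite ι] in
theorem cover_preimage {T : Scheme.{u}} (g : T ⟶ D.obj i) : ∀ x : T, ∃ k, x ∈ g ⁻¹ᵁ V k :=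
  fun x => hcov (g x)

include hc hV hcov in
/-- A map which vanishes on the limit vanishes at a stage. -/
theorem exists_stage_zero (hM : CohB1.IsFT M) (h : (Scheme.Modules.pullback (c.π.app i)).map u = 0) :
    ∃ (j : I) (φ : j ⟶ i), (Scheme.Modules.pullback (D.map φ)).map u = 0 := by
  classical
  have := isAffineHom_π D c hc i
  haveI := QCohPull.isQuasicoherent_pullback (c.π.app i) M
  haveI := QCohPull.isQuasicoherent_pullback (c.π.app i) N
  have hk : ∀ k, ∃ l : Over i, ∀ m, appₗ u (V k) m ⊗ₜ[Γ(D.obj i, V k)] (1 : SecSys D (V k) l) = 0 := fun k => by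
    haveI : Module.Finite Γ(D.obj i, V k) Γ(M, V k) := QCohBase.finite_sections M hM (hV k)
    have : Nonempty (Over i) := ⟨Over.mk (𝟙 i)⟩
    exact exists_stage_baseChange_eq_zero (directed_sec D c (V k)) (surjective_sec D c hc (V k) (hV k))
      (kill_sec D c hc (V k) (hV k)) (appₗ u (V k))
      ((appₗ_pullback_iff u (c.π.app i) (hV k) ((hV k).preimage _)).1.1
        ((eq_zero_iff_appₗ _ (fun k => (hV k).preimage (c.π.app i)) (cover_preimage D hcov _)).1 h k))
  choose l hl using hk
  have := Fintype.ofFinite ι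
  obtain ⟨m, hm⟩ := IsCofiltered.inf_objs_exists (Finset.univ.image l)
  refine ⟨m.left, m.hom, ?_⟩
  haveI := QCohPull.isQuasicoherent_pullback (D.map m.hom) M
  haveI := QCohPull.isQuasicoherent_pullback (D.map m.hom) N
  refine (eq_zero_iff_appₗ _ (fun k => (hV k).preimage (D.map m.hom)) (cover_preimage D hcov _)).2 fun k => ?_
  refine (appₗ_pullback_iff u (D.map m.hom) (hV k) ((hV k).preimage _)).1.2
    (baseChange_eq_zero_of _ fun x => ?_)
  let t := (hm (Finset.mem_image_of_mem l (Finset.mem_univ k))).some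
  have := congrArg ((secStep D c (V k) t).hom.toLinearMap.lTensor _) (hl k x)
  rwa [lTensor_one_tmul, map_zero] at this

include hc hV hcov in
/-- A map which is an epimorphism on the limit is one at a stage. -/
theorem exists_stage_epi (hN : CohB1.IsFT N) (h : Epi ((Scheme.Modules.pullback (c.π.app i)).map u)) :
    ∃ (j : I) (φ : j ⟶ i), Epi ((Scheme.Modules.pullback (D.map φ)).map u) := by
  classical
  have := isAffineHom_π D c hc i
  haveI := QCohPull.isQuasicoherent_pullback (c.π.app i) M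
  haveI := QCohPull.isQuasicoherent_pullback (c.π.app i) N
  have hk : ∀ k, ∃ l : Over i, ∀ n, n ⊗ₜ[Γ(D.obj i, V k)] (1 : SecSys D (V k) l) ∈
      LinearMap.range ((appₗ u (V k)).rTensor (SecSys D (V k) l)) := fun k => by
    haveI : Module.Finite Γ(D.obj i, V k) Γ(N, V k) := QCohBase.finite_sections N hN (hV k)
    have : Nonempty (Over i) := ⟨Over.mk (𝟙 i)⟩
    exact exists_stage_surjective (directed_sec D c (V k)) (surjective_sec D c hc (V k) (hV k))
      (kill_sec D c hc (V k) (hV k)) (appₗ u (V k))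
      ((appₗ_pullback_iff u (c.π.app i) (hV k) ((hV k).preimage _)).2.1.1
        ((epi_iff_appₗ _ (fun k => (hV k).preimage (c.π.app i)) (cover_preimage D hcov _)).1 h k))
  choose l hl using hk
  have := Fintype.ofFinite ι
  obtain ⟨m, hm⟩ := IsCofiltered.inf_objs_exists (Finset.univ.image l)
  refine ⟨m.left, m.hom, ?_⟩
  haveI := QCohPull.isQuasicoherent_pullback (D.map m.hom) M
  haveI := QCohPull.isQuasicoherent_pullback (D.map m.hom) N
  refine (epi_iff_appₗ _ (fun k => (hV k).preimage (D.map m.hom)) (cover_preimage D hcov _)).2 fun k => ?_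
  refine (appₗ_pullback_iff u (D.map m.hom) (hV k) ((hV k).preimage _)).2.1.2
    (baseChange_surjective_of _ fun n => ?_)
  let t := (hm (Finset.mem_image_of_mem l (Finset.mem_univ k))).some
  obtain ⟨w, hw⟩ := hl k n
  refine ⟨(secStep D c (V k) t).hom.toLinearMap.lTensor _ w, ?_⟩
  have := congrArg ((secStep D c (V k) t).hom.toLinearMap.lTensor _) hw
  rw [lTensor_one_tmul, ← LinearMap.comp_apply, LinearMap.lTensor_comp_rTensor,
    ← LinearMap.rTensor_comp_lTensor] at this
  exact this

include hc hV hcov in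
/-- A map which is an isomorphism on the limit is one at a stage. -/
theorem exists_stage_isIso (hM : CohB1.IsFT M) (hN : CohB1.IsFP N)
    (h : IsIso ((Scheme.Modules.pullback (c.π.app i)).map u)) :
    ∃ (j : I) (φ : j ⟶ i), IsIso ((Scheme.Modules.pullback (D.map φ)).map u) := by
  classical
  have := isAffineHom_π D c hc i
  haveI := QCohPull.isQuasicoherent_pullback (c.π.app i) M
  haveI := QCohPull.isQuasicoherent_pullback (c.π.app i) N
  have hk : ∀ k, ∃ (l : Over i) (v : Γ(N, V k) →ₗ[Γ(D.obj i, V k)] Γ(M, V k) ⊗[Γ(D.obj i, V k)] SecSys D (V k) l),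
      (∀ n, (appₗ u (V k)).rTensor (SecSys D (V k) l) (v n) = n ⊗ₜ 1) ∧ ∀ m, v (appₗ u (V k) m) = m ⊗ₜ 1 := fun k => by
    haveI : Module.Finite Γ(D.obj i, V k) Γ(M, V k) := QCohBase.finite_sections M hM (hV k)
    haveI := FinLocFreeSections.finitePresentation_sections N hN (hV k)
    have : Nonempty (Over i) := ⟨Over.mk (𝟙 i)⟩
    exact exists_stage_inverse (directed_sec D c (V k)) (surjective_sec D c hc (V k) (hV k))
      (kill_sec D c hc (V k) (hV k)) (appₗ u (V k))
      ((appₗ_pullback_iff u (c.π.app i) (hV k) ((hV k).preimage _)).2.2.1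
        ((isIso_iff_appₗ _ (fun k => (hV k).preimage (c.π.app i)) (cover_preimage D hcov _)).1 h k))
  choose l v hv₁ hv₂ using hk
  have := Fintype.ofFinite ι
  obtain ⟨m, hm⟩ := IsCofiltered.inf_objs_exists (Finset.univ.image l)
  refine ⟨m.left, m.hom, ?_⟩
  haveI := QCohPull.isQuasicoherent_pullback (D.map m.hom) M
  haveI := QCohPull.isQuasicoherent_pullback (D.map m.hom) N
  refine (isIso_iff_appₗ _ (fun k => (hV k).preimage (D.map m.hom)) (cover_preimage D hcov _)).2 fun k => ?_
  refine (appₗ_pullback_iff u (D.map m.hom) (hV k) ((hV k).preimage _)).2.2.2 ?_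
  let t := (hm (Finset.mem_image_of_mem l (Finset.mem_univ k))).some
  refine baseChange_bijective_of _ (((secStep D c (V k) t).hom.toLinearMap.lTensor _).comp (v k))
    (fun n => ?_) fun x => ?_
  · have := congrArg ((secStep D c (V k) t).hom.toLinearMap.lTensor _) (hv₁ k n)
    rw [lTensor_one_tmul, ← LinearMap.comp_apply, LinearMap.lTensor_comp_rTensor,
      ← LinearMap.rTensor_comp_lTensor] at this
    exact this
  · rw [LinearMap.comp_apply, hv₂]
    exact lTensor_one_tmul _ x

end Groth.Agent.FlatFunLib
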