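import Mathlib

/-!
# Transcendence degree of residue fields under base change
-/

set_option autoImplicit false

universe u

open CategoryTheory Limits AlgebraicGeometry TensorProduct

namespace Groth.Agent.FlatFunLib

/-- A field generated by the images of `K` and `k'` has transcendence degree over `k'` at most
`trdeg k K`. -/
theorem trdeg_le_of_generated {k K k' L : Type u} [Field k] [Field K] [Field k'] [Field L]
    [Algebra k K] [Algebra k k'] [Algebra k' L] (ι : K →+* L)
    (hι : ι.comp (algebraMap k K) = (algebraMap k' L).comp (algebraMap k k'))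
    (hgen : ∀ E : Subfield L, Set.range ι ⊆ E → Set.range (algebraMap k' L) ⊆ E → E = ⊤) :
    Algebra.trdeg k' L ≤ Algebra.trdeg k K := by
  obtain ⟨s, hs⟩ := exists_isTranscendenceBasis k K
  have halg := hs.isAlgebraic
  rw [Subtype.range_coe] at halg
  let A := Algebra.adjoin k' (ι '' s)
  let B := Algebra.adjoin k s
  have hB : ∀ b : B, ι (b : K) ∈ A := by
    rintro ⟨b, hb⟩
    induction hb using Algebra.adjoin_induction with
    | mem b hb => exact Algebra.subset_adjoin ⟨b, hb, rfl⟩
    | algebraMap r =>
      show ι.comp (algebraMap k K) r ∈ A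
      rw [hι]; exact A.algebraMap_mem _
    | add a b _ _ ha hb => simpa using A.add_mem ha hb
    | mul a b _ _ ha hb => simpa using A.mul_mem ha hb
  let φ : B →+* A := (ι.comp B.val.toRingHom).codRestrict A.toSubring hB
  have hφ : Function.Injective φ := fun a b h =>
    Subtype.ext (ι.injective (congrArg Subtype.val h))
  have key : ∀ a : K, IsAlgebraic A (ι a) := fun a =>
    (halg.isAlgebraic a).ringHom_of_comp_eq φ ι hφ (RingHom.ext fun _ => rfl)
  let E : Subfield L :=
    { (Subalgebra.algebraicClosure A L).toSubring with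
      inv_mem' := fun x hx => IsAlgebraic.inv hx }
  have hE : E = ⊤ := hgen E (by rintro _ ⟨a, rfl⟩; exact key a)
    (by rintro _ ⟨a, rfl⟩; exact isAlgebraic_algebraMap (⟨algebraMap k' L a, A.algebraMap_mem a⟩ : A))
  have : Algebra.IsAlgebraic A L := ⟨fun x => show x ∈ E by rw [hE]; trivial⟩
  obtain ⟨t, ht, htb⟩ := exists_isTranscendenceBasis_subset (R := k') (A := L) (ι '' s)
  calc Algebra.trdeg k' L = Cardinal.mk t := htb.cardinalMk_eq_trdeg.symm
    _ ≤ Cardinal.mk (ι '' s : Set L) := Cardinal.mk_le_mk_of_subset ht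
    _ ≤ Cardinal.mk s := Cardinal.mk_image_le
    _ = Algebra.trdeg k K := hs.cardinalMk_eq_trdeg

/-- Fields `K`, `k'` over `k` embed into a field `L` with `trdeg k K ≤ trdeg k' L`. -/
theorem exists_compositum {k K k' : Type u} [Field k] [Field K] [Field k'] [Algebra k K] [Algebra k k'] :
    ∃ (L : Type u) (_ : Field L) (_ : Algebra k' L) (ι : K →+* L),
      ι.comp (algebraMap k K) = (algebraMap k' L).comp (algebraMap k k') ∧
      ∀ (M : Type u) [Field M] [Algebra k' M] (j : M →ₐ[k'] L),
        (∀ a, ι a ∈ Set.range j) → Algebra.trdeg k K ≤ Algebra.trdeg k' M := by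
  obtain ⟨s, hs⟩ := exists_isTranscendenceBasis k K
  let T := k' ⊗[k] K
  let ψ : k' ⊗[k] MvPolynomial s k →ₐ[k'] T :=
    Algebra.TensorProduct.map (AlgHom.id k' k') (MvPolynomial.aeval ((↑) : s → K))
  have hψ : Function.Injective ψ :=
    Module.Flat.lTensor_preserves_injective_linearMap (MvPolynomial.aeval ((↑) : s → K)).toLinearMap hs.1
  let φ : MvPolynomial s k' →ₐ[k'] T :=
    ψ.comp (MvPolynomial.algebraTensorAlgEquiv k k').symm.toAlgHom
  have hφ : Function.Injective φ := hψ.comp (AlgEquiv.injective _)
  let S : Submonoid T := (nonZeroDivisors (MvPolynomial s k')).map φ.toRingHom.toMonoidHom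
  have hdis : Disjoint ((⊥ : Ideal T) : Set T) (S : Set T) := by
    rw [Set.disjoint_left]
    rintro a ha ⟨b, hb, rfl⟩
    exact nonZeroDivisors.ne_zero hb (hφ ((Ideal.mem_bot.1 ha).trans (map_zero φ).symm))
  obtain ⟨P, hP, -, hPS⟩ := Ideal.exists_le_prime_disjoint _ S hdis
  let π : T →ₐ[k'] P.ResidueField := IsScalarTower.toAlgHom k' T P.ResidueField
  have hinj : Function.Injective (π.comp φ) := by
    refine (injective_iff_map_eq_zero _).2 fun a ha => ?_
    by_contra h
    exact Set.disjoint_left.1 hPS (Ideal.algebraMap_residueField_eq_zero.1 ha)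
      ⟨a, mem_nonZeroDivisors_of_ne_zero h, rfl⟩
  refine ⟨P.ResidueField, inferInstance, inferInstance,
    π.toRingHom.comp Algebra.TensorProduct.includeRight.toRingHom, ?_, ?_⟩
  · refine RingHom.ext fun r => ?_
    show π ((1 : k') ⊗ₜ[k] algebraMap k K r) = algebraMap k' _ (algebraMap k k' r)
    rw [← AlgHom.commutes π, Algebra.TensorProduct.algebraMap_apply, Algebra.algebraMap_self_apply]
    congr 1
    rw [Algebra.algebraMap_eq_smul_one, Algebra.algebraMap_eq_smul_one, TensorProduct.tmul_smul,
      TensorProduct.smul_tmul']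
  · intro M _ _ j hj
    choose m hm using hj
    have hX : ∀ i : s, (π.comp φ) (MvPolynomial.X i) = π ((1 : k') ⊗ₜ[k] (i : K)) := by
      intro i; simp [φ, ψ]
      erw [Algebra.TensorProduct.map_tmul, MvPolynomial.aeval_X]; simp
    have hind : AlgebraicIndependent k' fun i : s => m (i : K) := by
      refine AlgebraicIndependent.of_comp j ?_
      have : (j ∘ fun i : s => m (i : K)) = fun i : s => (π.comp φ) (MvPolynomial.X i) :=
        funext fun i => by rw [hX]; exact hm _
      rw [this, algebraicIndependent_iff_injective_aeval]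
      rwa [show MvPolynomial.aeval (fun i : s => (π.comp φ) (MvPolynomial.X i)) = π.comp φ from
        MvPolynomial.algHom_ext fun i => by simp]
    rw [← hs.cardinalMk_eq_trdeg]
    exact hind.cardinalMk_le_trdeg

variable {X S X' S' : Scheme.{u}} {f : X ⟶ S} {g : S' ⟶ S} {f' : X' ⟶ S'} {g' : X' ⟶ X}

/-- Transcendence degrees of residue fields do not increase under base change. -/
theorem trdeg_baseChange_le (hc : IsPullback g' f' f g) (x' : X') :
    (letI := (f'.residueFieldMap x').hom.toAlgebra; Algebra.trdeg (S'.residueField (f' x')) (X'.residueField x')) ≤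
    (letI := (f.residueFieldMap (g' x')).hom.toAlgebra; Algebra.trdeg (S.residueField (f (g' x'))) (X.residueField (g' x'))) := by
  have h : f (g' x') = g (f' x') := by
    rw [← Scheme.Hom.comp_apply, ← Scheme.Hom.comp_apply, hc.w]
  letI := (f'.residueFieldMap x').hom.toAlgebra
  letI := (f.residueFieldMap (g' x')).hom.toAlgebra
  letI := ((S.residueFieldCongr h).hom ≫ g.residueFieldMap (f' x')).hom.toAlgebra
  have hsq : f.residueFieldMap (g' x') ≫ g'.residueFieldMap x' =
      ((S.residueFieldCongr h).hom ≫ g.residueFieldMap (f' x')) ≫ f'.residueFieldMap x' := by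
    rw [← Spec.map_inj, ← cancel_mono (S.fromSpecResidueField _)]
    simp [hc.w]
  refine trdeg_le_of_generated (g'.residueFieldMap x').hom (congrArg CommRingCat.Hom.hom hsq) ?_
  intro E h1 h2
  let a := CommRingCat.ofHom ((g'.residueFieldMap x').hom.codRestrict E fun z => h1 ⟨z, rfl⟩)
  let b := CommRingCat.ofHom ((f'.residueFieldMap x').hom.codRestrict E fun z => h2 ⟨z, rfl⟩)
  let i := CommRingCat.ofHom E.subtype
  have hab : f.residueFieldMap (g' x') ≫ a =
      ((S.residueFieldCongr h).hom ≫ g.residueFieldMap (f' x')) ≫ b := by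
    refine CommRingCat.hom_ext (RingHom.ext fun z => Subtype.ext ?_)
    exact congr($hsq z)
  let l : Spec (CommRingCat.of E) ⟶ X' :=
    hc.lift (Spec.map a ≫ X.fromSpecResidueField _) (Spec.map b ≫ S'.fromSpecResidueField _) (by
      have := congr(Spec.map $hab ≫ S.fromSpecResidueField (f (g' x')))
      simpa using this)
  have hl : Spec.map i ≫ l = X'.fromSpecResidueField x' := by
    apply hc.hom_ext
    · rw [Category.assoc, hc.lift_fst, ← Category.assoc, ← Spec.map_comp,
        show a ≫ i = g'.residueFieldMap x' from rfl, Scheme.Hom.SpecMap_residueFieldMap_fromSpecResidueField]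
    · rw [Category.assoc, hc.lift_snd, ← Category.assoc, ← Spec.map_comp,
        show b ≫ i = f'.residueFieldMap x' from rfl, Scheme.Hom.SpecMap_residueFieldMap_fromSpecResidueField]
  obtain ⟨⟨p, φ⟩, hp⟩ := (Scheme.SpecToEquivOfField E X').symm.surjective l
  change Spec.map φ ≫ X'.fromSpecResidueField p = l at hp
  rw [← hp, ← Category.assoc, ← Spec.map_comp] at hl
  obtain rfl : p = x' := by
    have := congr($hl (IsLocalRing.closedPoint (X'.residueField x')))
    simpa using this
  replace hl := (cancel_mono _).1 (hl.trans (Category.id_comp _).symm)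
  rw [← Spec.map_id, Spec.map_inj] at hl
  refine eq_top_iff.2 fun z _ => ?_
  rw [show z = i (φ z) from congr($hl.symm z)]
  exact (φ z).2

/-- Over `x` and `s'` there is a point of the base change with no smaller transcendence degree. -/
theorem exists_trdeg_le_baseChange (hc : IsPullback g' f' f g) (x : X) (s' : S') (h : f x = g s') :
    ∃ x' : X', g' x' = x ∧ f' x' = s' ∧
      (letI := (f.residueFieldMap x).hom.toAlgebra; Algebra.trdeg (S.residueField (f x)) (X.residueField x)) ≤
      (letI := (f'.residueFieldMap x').hom.toAlgebra; Algebra.trdeg (S'.residueField (f' x')) (X'.residueField x')) := by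
  letI := (f.residueFieldMap x).hom.toAlgebra
  letI := ((S.residueFieldCongr h).hom ≫ g.residueFieldMap s').hom.toAlgebra
  obtain ⟨L, _, _, ι, hι, hL⟩ := exists_compositum (k := S.residueField (f x)) (K := X.residueField x)
    (k' := S'.residueField s')
  let a : X.residueField x ⟶ CommRingCat.of L := CommRingCat.ofHom ι
  let b : S'.residueField s' ⟶ CommRingCat.of L := CommRingCat.ofHom (algebraMap (S'.residueField s') L)
  have hab : f.residueFieldMap x ≫ a = ((S.residueFieldCongr h).hom ≫ g.residueFieldMap s') ≫ b :=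
    CommRingCat.hom_ext hι
  let l : Spec (CommRingCat.of L) ⟶ X' :=
    hc.lift (Spec.map a ≫ X.fromSpecResidueField _) (Spec.map b ≫ S'.fromSpecResidueField _) (by
      have := congr(Spec.map $hab ≫ S.fromSpecResidueField (f x))
      simpa using this)
  obtain ⟨⟨p, φ⟩, hp⟩ := (Scheme.SpecToEquivOfField L X').symm.surjective l
  change Spec.map φ ≫ X'.fromSpecResidueField p = l at hp
  have h1 : g' p = x := by
    have := congr(($hp ≫ g') (IsLocalRing.closedPoint L))
    simpa [l] using this
  have h2 : f' p = s' := by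
    have := congr(($hp ≫ f') (IsLocalRing.closedPoint L))
    simpa [l] using this
  refine ⟨p, h1, h2, ?_⟩
  subst h1 h2
  have ha : g'.residueFieldMap p ≫ φ = a := by
    rw [← Spec.map_inj, ← cancel_mono (X.fromSpecResidueField _)]
    have := congr($hp ≫ g')
    simpa [l] using this
  have hb : f'.residueFieldMap p ≫ φ = b := by
    rw [← Spec.map_inj, ← cancel_mono (S'.fromSpecResidueField _)]
    have := congr($hp ≫ f')
    simpa [l] using this
  letI := (f'.residueFieldMap p).hom.toAlgebra
  exact hL _ { φ.hom with commutes' := fun r => congr($hb r) }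
    fun z => ⟨g'.residueFieldMap p z, congr($ha z)⟩

end Groth.Agent.FlatFunLib
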